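import Cfsg.Agent.Fi22C.Cert
import Cfsg.Agent.CGT.Out

set_option autoImplicit false
set_option Elab.async false
set_option maxRecDepth 100000
set_option linter.all false

namespace Cfsg.Agent.Fi22C
open Cfsg.Agent.CGT

noncomputable def cu_l0 : Level := ⟨0, [[0], [2], [4], [6], [8], [10], [12], [14], [16]], [1, 0, 2, 3, 1, 4, 7, 5, 8, 3, 2, 6, 4, 7, 3, 1, 5, 4, 2, 7, 8, 3, 5, 1, 0, 6, 7, 8, 2, 4, 3, 1, 5, 0, 6, 2, 7, 1, 3, 2], 0x3ffffffffffffffffffffffffffffffffffffffffffffffffffffffffffffffffffffffffffffffffffffffffffffffffffffffffffffffffffffffffffffffffffffffffffffffffffffffffffffffffffffffffffffffffffffffffffffffffffffffffffffffffffffffffffffffffffffffffffffffffffffffffffffffffffffffffffffffffffffffffffffffffffffffffffffffffffffffffffff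fffffffffffffffffffffffffffffffffffffffffffffffffffffffffffffffffffffffffffffffffffffffffffffffffffffffffffffffffffffffffffffffffffffffffffffffffffffffffffffffffffffffffffffffffffffffffffffffffffffffffffffffffffffffffffffffffffffffffffffffffffffffffffffffffffffffffffffffffffffffffffffffffffffffffffffffffffffffffffffffffffffffffffffffffffffffffffffffffffffffffffffffffffffffffffffffffffffffffffffffffffffffffffffffffffffffffffffffffffffffffffffffffffffffffffffffffffffffffffffffffffffffffffffffffffffffffffffffffffffffffffffffffffffffffffffffffffffffffffffffff, 3510⟩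
noncomputable def cu_l1 : Level := ⟨637, [[4], [6], [8], [10], [14], [0], [12], [16], [2, 0, 4, 2, 6, 4, 8, 6, 14, 6, 8, 4, 6, 2, 4, 0, 2]], [7, 4, 1, 0, 2, 3, 1, 6, 4, 2, 7, 1, 3, 0, 4, 2, 1, 8, 3, 7, 2, 6, 1, 4, 3, 0, 1, 0], 0x180000000000000000000000000000900c000000000000200000000000009000000000000009000e000000000000000000050000000000000004b0000000000000026000380000000000000000000120068000000000000001cd80000000000201b0003000000000000009000000003401e1000000000000003bc00000000203c00100000000000000000d800000007803c170000000000000fc00000303c002000000000200000180003e000001e01e83e0000010000f800060f000000020000007000003c0007c0003c0fc03e00018047801c7800000000380000807c0003c01e00787e003c00e09e0670000000000004780008183c00f03c0e7f0021e06271b800000000000000000303c00c00f03c0e38efc0871973600000002180000000000001c0781e071c739be31cdef0000000020718800000000000fc1c71ce6df9bbf8000000010020e3994000000001fc739b7fbff00000000030003c736e0000000fcdbffff8000000014007e6ff000003efffff0000000f803efe0000ffff800001f00ff8003ffc0001d81fc00fe000760f8078007d0703003f430403ff42007fc801ff007c070440,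 693⟩
noncomputable def cu_l2 : Level := ⟨982, [[4], [6], [8], [10], [14], [0], [12], [2, 0, 4, 2, 6, 4, 8, 6, 14, 6, 8, 4, 6, 2, 4, 0, 2], [16, 14, 6, 8, 4, 6, 14, 16, 10, 8, 12, 10, 2, 0, 4, 2, 6, 4, 8, 6, 14, 6, 8, 4, 6, 2, 4, 0, 2, 10, 12, 8, 10, 16, 14, 6, 4, 8, 6, 14, 16]], [1, 3, 4, 5, 2, 1, 0, 6, 3, 6, 1, 2, 4, 7, 3, 6], 0x2090045a000000000000000000120401540200000000000000040000442d016d80000004880000000004000252a236844010000000000000020000249b6a53e000004a54000084000040000094dab4f0800000000000000000c001655f3af80000ab60a00040200000000002d57ce7c0000000000000000003000ebeef0001b7c07a000000000000000004075f7780000000000000001003bdf0007fc03f000000000000000000081def80000000000000003fe007e0007fc0000000000000000000ff80000000000001f80e18000003ff800000000000000003f000000000000e073c01c0000003801fe40000000000000007000000000c171fc03c00000001000381fa0000000000006000000109ee1f81c0000000000180383d00000000020000078e7e0f0ec200000000001c063e00000000000de3631e39cc0700000000018670000000031e664e5a8030000000065800000033d10ab000c000002a000044c052001000050001081000200080008000100000000000000000000000000000000000000000000000,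 512⟩
noncomputable def cu_l3 : Level := ⟨400, [[12, 16, 4, 16, 6, 14, 8, 10, 6, 8, 12, 10, 4, 6, 14, 6, 16, 14, 6, 8, 4, 6, 14, 16, 10, 8, 12, 10, 2, 0, 4, 2, 6, 4, 8, 6, 14, 6, 8, 4, 6, 2, 4, 0, 2, 10, 12, 8, 10, 16, 14, 6, 4, 8, 6, 14, 16, 12, 4, 6, 8, 4, 6, 4], [14, 4, 6, 0, 8, 10, 16, 14, 6, 8, 4, 6, 14, 16, 10, 8, 12, 10, 2, 0, 4, 2, 6, 4, 8, 6, 14, 6, 8, 4, 6, 2, 4, 0, 2, 10, 12, 8, 10, 16, 14, 6, 4, 8, 6, 14, 16, 6, 8, 12, 10, 14, 0, 2, 0, 4, 2, 6, 4, 8, 6, 14, 6, 8, 4, 6, 2, 4, 0, 2, 4, 6, 8]], [0, 1, 0, 1, 0, 1, 0, 1, 0, 1, 0, 1, 0, 1, 0, 0, 1, 0], 0x814080a5002216408490302010800c2c0400400924498206018b200005121c00b00140274a4480504002004014020b0010080402000414081008408a20188025800802c00002800890200400040000000001402000041700080004140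000040003692004048000400249008000400040810244000800a9604202008040201000400e080c005200082008000c00004040010040005003085050000000042430000480b00210440000010004000000000a0000042000160400020002090004080586a10810002084000070000042000000800021800200002200c00405004080000001c20002400080122800000100000020040801008000100000c004400208000462000000880000004141400800000001059400044c0008001800000022000000a000400000029028028d8c006880000000100000008000022000000a0000880000100c000044000e08001000000000080c0000016000001e4007000000000000000100000400380000000440020803000000000800100050000000e90a000000000004100200000b2900000200100022006204000210000400740020908803081100030100000a44800000880000580001802084020, 432⟩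
noncomputable def cu_l4 : Level := ⟨1142, [[8, 6, 14, 4, 6, 8, 10, 8, 6, 14, 10, 12, 8, 6, 4, 10, 8, 6, 14, 6, 8, 10, 4, 6, 8, 12, 10, 4, 6, 8], [8, 4, 0, 6, 14, 4, 6, 8, 10, 4, 8, 6, 16, 14, 6, 8, 4, 6, 14, 16, 10, 8, 12, 10, 2, 0, 4, 2, 6, 4, 8, 6, 14, 6, 8, 4, 6, 2, 4, 0, 2, 10, 12, 8, 10, 16, 14, 6, 4, 8, 6, 14, 16, 6, 14, 6, 8, 4, 6], [6, 16, 14, 6, 8, 4, 6, 14, 16, 10, 8, 12, 10, 2, 0, 4, 2, 6, 4, 8, 6, 14, 6, 8, 4, 6, 2, 4, 0, 2, 10, 12, 8, 10, 16, 14, 6, 4, 8, 6, 14, 16, 10, 12, 8, 6, 4, 10, 8, 6, 14, 6, 8, 10, 4, 6, 8, 12, 10, 6, 4]], [], 0x200018000000000000000000200000000000000000000000000000080000000000000000000000000000000000000000000000000000000000000000000000040000000000000000000000000000000000000000000000000000000000000000000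00000000000000000000000000000000000000000000000000000000000000000000000000000000000000000000000000000000000000000000000008000000000000000000080000000000000000000000000000000000000000000000000000000800000000000008000000000000000000000000000000000000000000000000000800000000000000000001000000000000080000000000000000000000000000000200000000000400200000000000000000000000000000000000000000000004000100000000000000000000000000000000000000020000002000000000000000000000000000001000000000000000000000000000000000000080080000000000000000000000000000000000000000000000000000000000400000000000000000000020000000000000000000000000000000000000000040000000400000200000020000000000000008000, 30⟩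
noncomputable def cu_l5 : Level := ⟨636, [[4, 6, 16, 14, 6, 8, 4, 6, 14, 16, 10, 8, 12, 10, 2, 0, 4, 2, 6, 4, 8, 6, 14, 6, 8, 4, 6, 2, 4, 0, 2, 10, 12, 8, 10, 16, 14, 6, 4, 8, 6, 14, 16, 6, 4], [10, 12, 6, 10, 16, 14, 6, 8, 4, 6, 14, 16, 10, 8, 12, 10, 2, 0, 4, 2, 6, 4, 8, 6, 14, 6, 8, 4, 6, 2, 4, 0, 2, 10, 12, 8, 10, 16, 14, 6, 4, 8, 6, 14, 16, 12, 10, 12, 6]], [], 0x100000000000000000000000000000000000000000000000000000000000000000000000000000000000000000000000000000000000000000000000000000000000000000000000000000000000000000000000000000000000000000000000000000000000000000000000000000000000000000001000000000000000000000000000000000000000000000000040000000000000004000000000000000000000000000000000000000000000000000000000000000000000000000000000000000000000,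 4⟩
noncomputable def cu_ls : List Level := [cu_l0, cu_l1, cu_l2, cu_l3, cu_l4, cu_l5]
noncomputable def cu_S : Srch := ⟨12, m_ts, (chainBase [] c_ls), [12, 16, 14, 6, 8, 4, 6, 14, 16, 10, 8, 6, 14, 12, 10, 8, 6, 2, 4, 0, 2, 10, 8, 6, 4, 14, 16, 2, 0, 4, 2, 6, 4, 8, 6, 14, 6, 8, 4, 6, 2, 4, 0, 2, 10, 8, 6, 14, 16, 14, 10, 8, 6, 16, 14, 6, 8, 4, 6, 14, 16, 10, 8, 12, 10, 2, 0, 4, 2, 6, 4, 8, 6, 14, 6, 8, 4, 6, 2, 4, 0, 2, 10, 12, 8, 10, 16, 14, 6, 4, 8, 6, 14, 16, 8, 10, 8, 6, 14, 0, 4, 6, 4], [12, 16, 14, 6, 8, 4, 6, 14, 16, 10, 8, 6, 14, 12, 10, 8, 6, 2, 4, 0, 2, 10, 8, 6, 4, 14, 16, 2, 0, 4, 2, 6, 4, 8, 6, 14, 6, 8, 4, 6, 2, 4, 0, 2, 10, 8, 6, 14, 16, 14, 10, 8, 6, 16, 14, 6, 8, 4, 6, 14, 16, 10, 8, 12, 10, 2, 0, 4, 2, 6, 4, 8, 6, 14, 6, 8,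 4, 6, 2, 4, 0, 2, 10, 12, 8, 10, 16, 14, 6, 4, 8, 6, 14, 16, 8, 10, 8, 6, 14, 0, 4, 6, 4], [[6, 8, 6, 2, 4, 0, 2, 14, 6, 16, 14, 4, 6, 10, 8, 12, 10, 2, 0, 4, 2, 6, 4, 8, 6, 14, 6, 8, 4, 6, 2, 4, 0, 2, 14, 6, 8, 4, 6, 14, 16, 10, 8, 12, 10, 2, 0, 4, 2, 6, 4, 8, 6, 14, 6, 8, 4, 6, 2, 4, 0, 2, 10, 12, 8, 10, 16, 14, 6, 4, 8, 6, 14, 16, 4, 6, 8, 12, 10, 8, 6, 14, 0, 10, 12, 8, 6, 4, 10, 8, 6, 14, 6, 8, 10, 4, 6, 8, 12, 10, 2, 0, 4, 2, 6, 4, 8, 6, 14, 6, 8, 4, 6, 2, 4, 0, 2, 4, 6, 8, 4, 6], [14, 8, 6, 2, 4, 0, 2, 16, 10, 8, 12, 10, 2, 0, 4, 2, 6, 4, 8, 6, 14, 6, 8, 4, 6, 2, 4, 0, 2, 6, 4, 8, 6, 14, 16, 6, 16, 14, 6, 8, 4, 6, 14, 16, 10, 8, 12, 10, 2, 0, 4, 2, 6, 4, 8, 6, 14, 6, 8, 4, 6, 2, 4, 0, 2, 10, 12, 8, 10, 16, 14, 6, 4, 8, 6, 14, 16, 10, 6,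 8, 4, 6, 14, 4, 6, 0, 12, 14, 10, 12, 8, 10, 2, 0, 4, 2, 6, 4, 8, 6, 14, 6, 8, 4, 6, 2, 4, 0, 2, 10, 8, 12, 10, 4, 6, 8, 6, 4], [4, 6, 14, 12, 4, 6, 14, 10, 8, 6, 4, 2, 14, 6, 16, 14, 6, 4, 8, 6, 10, 8, 12, 10, 2, 0, 4, 2, 6, 4, 8, 6, 14, 6, 8, 4, 6, 2, 4, 0, 2, 16, 6, 10, 2, 0, 4, 2, 6, 4, 8, 6, 14, 6, 8, 4, 6, 2, 4, 0, 2, 8, 10, 8, 4, 6, 14, 0, 4, 6, 0, 12, 14, 10, 12, 8, 10, 2, 0, 4, 2, 6, 4, 8, 6, 14, 6, 8, 4, 6, 2, 4, 0, 2, 10, 8, 12, 10, 4, 6, 8, 4, 6], [16, 6, 14, 10, 8, 6, 4, 2, 14, 4, 6, 8, 10, 2, 0, 4, 2, 6, 4, 8, 6, 14, 6, 8, 4, 6, 2, 4, 0, 2, 16, 10, 12, 8, 4, 6, 16, 14, 6, 8, 4, 6, 14, 16, 10, 8, 12, 10, 2, 0, 4, 2, 6, 4, 8, 6, 14, 6, 8, 4, 6, 2, 4, 0, 2, 10, 12, 8, 10, 16, 14, 6, 4, 8, 6, 14, 16, 8, 10, 4, 6, 14, 6, 16, 14, 6, 8,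 4, 6, 14, 16, 10, 8, 12, 10, 2, 0, 4, 2, 6, 4, 8, 6, 14, 6, 8, 4, 6, 2, 4, 0, 2, 10, 12, 8, 10, 16, 14, 6, 4, 8, 6, 14, 16, 12, 6, 8, 4, 6], [0, 8, 2, 4, 6, 14, 8, 6, 4, 2, 12, 6, 8, 10, 14, 6, 4, 8, 6, 14, 16, 14, 4, 6, 16, 14, 6, 8, 4, 6, 14, 16, 10, 8, 12, 10, 2, 0, 4, 2, 6, 4, 8, 6, 14, 6, 8, 4, 6, 2, 4, 0, 2, 10, 12, 8, 10, 16, 14, 6, 4, 8, 6, 14, 16, 10, 4, 6, 14, 0, 12, 14, 10, 12, 8, 10, 2, 0, 4, 2, 6, 4, 8, 6, 14, 6, 8, 4, 6, 2, 4, 0, 2, 10, 6, 4, 10, 8, 6, 14, 6, 8, 10, 4, 6, 8, 12, 10, 6, 8, 6, 4], [12, 10, 8, 4, 6, 2, 4, 0, 2, 6, 12, 4, 6, 8, 10, 2, 0, 4, 2, 6, 4, 8, 6, 14, 6, 8, 4, 6, 2, 4, 0, 2, 12, 10, 8, 6, 14, 16, 2, 0, 4, 2, 6, 4, 8, 6, 14, 6, 8, 4, 6, 2, 4, 0, 2, 6, 8, 10, 8, 6, 14, 12, 0, 10, 12, 8, 6, 4, 10, 8, 6, 14, 6,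 8, 10, 4, 6, 8, 12, 10, 4, 6, 8, 4, 6, 4], [14, 12, 10, 8, 6, 2, 4, 0, 2, 8, 10, 16, 14, 6, 4, 8, 6, 14, 16, 14, 8, 4, 6, 10, 16, 14, 6, 8, 4, 6, 14, 16, 10, 8, 12, 10, 2, 0, 4, 2, 6, 4, 8, 6, 14, 6, 8, 4, 6, 2, 4, 0, 2, 10, 12, 8, 10, 16, 14, 6, 4, 8, 6, 14, 16, 8, 10, 12, 10, 12, 8, 6, 4, 10, 8, 6, 14, 6, 8, 10, 4, 6, 8, 12, 10, 6, 8, 6], [8, 4, 10, 8, 6, 14, 10, 8, 6, 2, 4, 0, 2, 16, 12, 6, 8, 10, 2, 0, 4, 2, 6, 4, 8, 6, 14, 6, 8, 4, 6, 2, 4, 0, 2, 12, 10, 8, 6, 14, 16, 14, 6, 10, 16, 14, 6, 8, 4, 6, 14, 16, 10, 8, 12, 10, 2, 0, 4, 2, 6, 4, 8, 6, 14, 6, 8, 4, 6, 2, 4, 0, 2, 10, 12, 8, 10, 16, 14, 6, 4, 8, 6, 14, 16, 8, 10, 16, 14, 6, 8, 4, 6, 14, 16, 10, 8, 12, 10, 2, 0, 4, 2, 6, 4, 8, 6, 14, 6, 8, 4, 6, 2, 4, 0, 2, 10, 12, 8, 10, 16, 14,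 6, 4, 8, 6, 14, 16, 6, 8, 4, 6, 14, 12, 14, 10, 12, 8, 10, 2, 0, 4, 2, 6, 4, 8, 6, 14, 6, 8, 4, 6, 2, 4, 0, 2, 10, 8, 12, 10, 8], [12, 10, 8, 2, 0, 6, 14, 8, 6, 2, 4, 0, 2, 10, 12, 8, 10, 16, 14, 6, 4, 8, 6, 14, 16, 10, 16, 14, 6, 8, 4, 6, 14, 16, 10, 8, 12, 10, 2, 0, 4, 2, 6, 4, 8, 6, 14, 6, 8, 4, 6, 2, 4, 0, 2, 10, 12, 8, 10, 16, 14, 6, 4, 8, 6, 14, 16, 8, 16, 14, 6, 8, 4, 6, 14, 16, 10, 8, 12, 10, 2, 0, 4, 2, 6, 4, 8, 6, 14, 6, 8, 4, 6, 2, 4, 0, 2, 10, 12, 8, 10, 16, 14, 6, 4, 8, 6, 14, 16, 6, 8, 10, 16, 14, 6, 8, 4, 6, 14, 16, 10, 8, 12, 10, 2, 0, 4, 2, 6, 4, 8, 6, 14, 6, 8, 4, 6, 2, 4, 0, 2, 10, 12, 8, 10, 16, 14, 6, 4, 8, 6, 14, 16, 4, 6, 8, 10, 6, 16, 14, 6, 8, 4, 6, 14, 16, 10, 8, 12, 10, 2, 0, 4, 2, 6, 4, 8, 6, 14, 6, 8, 4, 6, 2, 4,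 0, 2, 10, 12, 8, 10, 16, 14, 6, 4, 8, 6, 14, 16, 14, 6, 0, 12, 14, 10, 12, 8, 10, 2, 0, 4, 2, 6, 4, 8, 6, 14, 6, 8, 4, 6, 2, 4, 0, 2, 10, 8, 12, 10, 8, 6, 4], [16, 6, 14, 10, 8, 6, 4, 0, 2, 8, 10, 14, 6, 4, 8, 6, 14, 16, 10, 8, 12, 8, 6, 4, 16, 14, 6, 8, 4, 6, 14, 16, 10, 8, 12, 10, 2, 0, 4, 2, 6, 4, 8, 6, 14, 6, 8, 4, 6, 2, 4, 0, 2, 10, 12, 8, 10, 16, 14, 6, 4, 8, 6, 14, 16, 10, 8, 6, 16, 14, 6, 8, 4, 6, 14, 16, 10, 8, 12, 10, 2, 0, 4, 2, 6, 4, 8, 6, 14, 6, 8, 4, 6, 2, 4, 0, 2, 10, 12, 8, 10, 16, 14, 6, 4, 8, 6, 14, 16, 10, 16, 14, 6, 8, 4, 6, 14, 16, 10, 8, 12, 10, 2, 0, 4, 2, 6, 4, 8, 6, 14, 6, 8, 4, 6, 2, 4, 0, 2, 10, 12, 8, 10, 16, 14, 6, 4, 8, 6, 14, 16, 8, 4, 6, 14, 12, 0, 10, 12, 8, 6, 4, 10, 8, 6, 14, 6, 8, 10, 4, 6, 8, 12, 10, 4, 6,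 8, 4], [10, 6, 8, 16, 14, 16, 6, 14, 4, 6, 2, 4, 0, 2, 8, 6, 4, 14, 16, 6, 14, 8, 10, 2, 0, 4, 2, 6, 4, 8, 6, 14, 6, 8, 4, 6, 2, 4, 0, 2, 16, 10, 8, 6, 4, 16, 14, 6, 8, 4, 6, 14, 16, 10, 8, 12, 10, 2, 0, 4, 2, 6, 4, 8, 6, 14, 6, 8, 4, 6, 2, 4, 0, 2, 10, 12, 8, 10, 16, 14, 6, 4, 8, 6, 14, 16, 10, 8, 6, 16, 14, 6, 8, 4, 6, 14, 16, 10, 8, 12, 10, 2, 0, 4, 2, 6, 4, 8, 6, 14, 6, 8, 4, 6, 2, 4, 0, 2, 10, 12, 8, 10, 16, 14, 6, 4, 8, 6, 14, 16, 10, 14, 6, 8, 4, 6, 14, 12, 14, 10, 12, 8, 10, 2, 0, 4, 2, 6, 4, 8, 6, 14, 6, 8, 4, 6, 2, 4, 0, 2, 10, 8, 12, 10, 4], [4, 0, 12, 2, 4, 16, 14, 16, 8, 6, 14, 12, 10, 8, 6, 4, 0, 2, 10, 6, 4, 14, 16, 2, 0, 4, 2, 6, 4, 8, 6, 14, 6, 8, 4, 6, 2, 4, 0, 2, 10, 4, 6, 14, 16, 10, 8, 12, 10, 2, 0, 4, 2, 6, 4, 8, 6, 14,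 6, 8, 4, 6, 2, 4, 0, 2, 10, 12, 8, 10, 16, 14, 6, 4, 8, 6, 14, 16, 4, 6, 8, 12, 10, 6, 14, 10, 12, 8, 6, 4, 10, 8, 6, 14, 6, 8, 10, 4, 6, 8, 12, 10, 2, 0, 4, 2, 6, 4, 8, 6, 14, 6, 8, 4, 6, 2, 4, 0, 2, 6, 8], [4, 0, 8, 6, 2, 8, 6, 14, 16, 4, 6, 14, 8, 6, 4, 0, 2, 8, 6, 16, 14, 4, 6, 8, 10, 2, 0, 4, 2, 6, 4, 8, 6, 14, 6, 8, 4, 6, 2, 4, 0, 2, 16, 6, 14, 8, 6, 10, 2, 0, 4, 2, 6, 4, 8, 6, 14, 6, 8, 4, 6, 2, 4, 0, 2, 8, 10, 0, 8, 6, 16, 14, 6, 8, 4, 6, 14, 16, 10, 8, 12, 10, 2, 0, 4, 2, 6, 4, 8, 6, 14, 6, 8, 4, 6, 2, 4, 0, 2, 10, 12, 8, 10, 16, 14, 6, 4, 8, 6, 14, 16, 12, 4, 6], [8, 2, 0, 4, 6, 14, 12, 10, 8, 6, 4, 2, 14, 4, 8, 6, 10, 8, 12, 10, 2, 0, 4, 2, 6, 4, 8, 6, 14, 6, 8, 4, 6, 2, 4, 0, 2, 14, 6, 8, 4, 6, 14, 16, 10, 8, 12, 10, 2, 0, 4, 2, 6,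 4, 8, 6, 14, 6, 8, 4, 6, 2, 4, 0, 2, 10, 12, 8, 10, 16, 14, 6, 4, 8, 6, 14, 16, 8, 10, 4, 8, 6, 16, 14, 6, 8, 4, 6, 14, 16, 10, 8, 12, 10, 2, 0, 4, 2, 6, 4, 8, 6, 14, 6, 8, 4, 6, 2, 4, 0, 2, 10, 12, 8, 10, 16, 14, 6, 4, 8, 6, 14, 16, 4, 8, 6, 0, 12, 14, 10, 12, 8, 10, 2, 0, 4, 2, 6, 4, 8, 6, 14, 6, 8, 4, 6, 2, 4, 0, 2, 10, 8, 12, 10, 4, 6, 8, 4], [4, 16, 6, 14, 16, 4, 6, 14, 8, 6, 4, 0, 2, 12, 6, 12, 10, 2, 0, 4, 2, 6, 4, 8, 6, 14, 6, 8, 4, 6, 2, 4, 0, 2, 10, 12, 8, 10, 16, 14, 6, 4, 8, 6, 14, 16, 8, 12, 10, 4, 14, 6, 16, 14, 6, 8, 4, 6, 14, 16, 10, 8, 12, 10, 2, 0, 4, 2, 6, 4, 8, 6, 14, 6, 8, 4, 6, 2, 4, 0, 2, 10, 12, 8, 10, 16, 14, 6, 4, 8, 6, 14, 16, 6, 14, 4, 6, 4], [8, 2, 4, 6, 14, 12, 10, 8, 6, 4, 2, 4, 6, 16, 14, 4, 6, 8, 12, 10, 2, 0,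 4, 2, 6, 4, 8, 6, 14, 6, 8, 4, 6, 2, 4, 0, 2, 16, 12, 8, 6, 16, 14, 6, 8, 4, 6, 14, 16, 10, 8, 12, 10, 2, 0, 4, 2, 6, 4, 8, 6, 14, 6, 8, 4, 6, 2, 4, 0, 2, 10, 12, 8, 10, 16, 14, 6, 4, 8, 6, 14, 16, 10, 6, 14, 10, 12, 8, 6, 4, 10, 8, 6, 14, 6, 8, 10, 4, 6, 8, 12, 10, 8, 6, 0, 12, 14, 10, 12, 8, 10, 2, 0, 4, 2, 6, 4, 8, 6, 14, 6, 8, 4, 6, 2, 4, 0, 2, 10, 8, 12, 10, 6], [14, 2, 4, 12, 14, 16, 10, 8, 6, 14, 12, 10, 8, 6, 2, 4, 0, 2, 6, 4, 14, 16, 6, 14, 8, 10, 2, 0, 4, 2, 6, 4, 8, 6, 14, 6, 8, 4, 6, 2, 4, 0, 2, 16, 14, 10, 16, 14, 6, 8, 4, 6, 14, 16, 10, 8, 12, 10, 2, 0, 4, 2, 6, 4, 8, 6, 14, 6, 8, 4, 6, 2, 4, 0, 2, 10, 12, 8, 10, 16, 14, 6, 4, 8, 6, 14, 16, 4, 6, 8, 10, 6, 14, 12, 2, 0, 4, 2, 6, 4, 8, 6, 14, 6, 8, 4, 6, 2, 4, 0, 2, 8, 4], [14, 16,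 10, 8, 6, 14, 12, 10, 8, 6, 4, 2, 4, 6, 14, 12, 10, 2, 0, 4, 2, 6, 4, 8, 6, 14, 6, 8, 4, 6, 2, 4, 0, 2, 16, 14, 12, 8, 6, 16, 14, 6, 8, 4, 6, 14, 16, 10, 8, 12, 10, 2, 0, 4, 2, 6, 4, 8, 6, 14, 6, 8, 4, 6, 2, 4, 0, 2, 10, 12, 8, 10, 16, 14, 6, 4, 8, 6, 14, 16, 10, 4, 8, 6, 16, 14, 6, 8, 4, 6, 14, 16, 10, 8, 12, 10, 2, 0, 4, 2, 6, 4, 8, 6, 14, 6, 8, 4, 6, 2, 4, 0, 2, 10, 12, 8, 10, 16, 14, 6, 4, 8, 6, 14, 16, 4], [4, 6, 16, 14, 6, 8, 4, 6, 14, 12, 10, 8, 6, 4, 0, 2, 12, 10, 14, 6, 4, 16, 2, 0, 4, 2, 6, 4, 8, 6, 14, 6, 8, 4, 6, 2, 4, 0, 2, 10, 8, 6, 14, 16, 14, 12, 8, 6, 16, 14, 6, 8, 4, 6, 14, 16, 10, 8, 12, 10, 2, 0, 4, 2, 6, 4, 8, 6, 14, 6, 8, 4, 6, 2, 4, 0, 2, 10, 12, 8, 10, 16, 14, 6, 4, 8, 6, 14, 16, 10, 16, 14, 6, 8, 4, 6, 14, 16, 10, 8,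 12, 10, 2, 0, 4, 2, 6, 4, 8, 6, 14, 6, 8, 4, 6, 2, 4, 0, 2, 10, 12, 8, 10, 16, 14, 6, 4, 8, 6, 14, 16, 12, 0, 4, 6, 4], [8, 4, 16, 6, 16, 10, 4, 6, 8, 2, 4, 6, 14, 12, 10, 8, 6, 4, 2, 12, 10, 14, 6, 4, 8, 6, 14, 16, 10, 2, 0, 4, 2, 6, 4, 8, 6, 14, 6, 8, 4, 6, 2, 4, 0, 2, 8, 10, 8, 6, 16, 14, 6, 8, 4, 6, 14, 16, 10, 8, 12, 10, 2, 0, 4, 2, 6, 4, 8, 6, 14, 6, 8, 4, 6, 2, 4, 0, 2, 10, 12, 8, 10, 16, 14, 6, 4, 8, 6, 14, 16, 6, 0, 12, 14, 10, 12, 8, 10, 2, 0, 4, 2, 6, 4, 8, 6, 14, 6, 8, 4, 6, 2, 4, 0, 2, 10, 8, 12, 10, 6, 8, 6], [4, 0, 16, 2, 10, 8, 6, 14, 16, 4, 6, 14, 12, 10, 8, 6, 4, 0, 2, 12, 10, 8, 6, 14, 6, 8, 12, 10, 2, 0, 4, 2, 6, 4, 8, 6, 14, 6, 8, 4, 6, 2, 4, 0, 2, 16, 10, 16, 14, 6, 8, 4, 6, 14, 16, 10, 8, 12, 10, 2, 0, 4, 2, 6, 4, 8, 6,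 14, 6, 8, 4, 6, 2, 4, 0, 2, 10, 12, 8, 10, 16, 14, 6, 4, 8, 6, 14, 16, 8, 10, 14, 4, 6, 16, 14, 6, 8, 4, 6, 14, 16, 10, 8, 12, 10, 2, 0, 4, 2, 6, 4, 8, 6, 14, 6, 8, 4, 6, 2, 4, 0, 2, 10, 12, 8, 10, 16, 14, 6, 4, 8, 6, 14, 16, 8, 6, 0, 12, 14, 10, 12, 8, 10, 2, 0, 4, 2, 6, 4, 8, 6, 14, 6, 8, 4, 6, 2, 4, 0, 2, 10, 8, 12, 10, 4, 6, 8, 6, 4], [0, 6, 14, 4, 6, 8, 2, 4, 6, 14, 10, 8, 6, 4, 2, 8, 10, 6, 4, 8, 6, 14, 16, 12, 8, 6, 16, 14, 6, 8, 4, 6, 14, 16, 10, 8, 12, 10, 2, 0, 4, 2, 6, 4, 8, 6, 14, 6, 8, 4, 6, 2, 4, 0, 2, 10, 12, 8, 10, 16, 14, 6, 4, 8, 6, 14, 16, 10, 0, 12, 4, 8, 6, 16, 14, 6, 8, 4, 6, 14, 16, 10, 8, 12, 10, 2, 0, 4, 2, 6, 4, 8, 6, 14, 6, 8, 4, 6, 2, 4, 0, 2, 10, 12, 8, 10, 16, 14, 6, 4, 8, 6, 14, 16, 10, 12, 8, 6, 4, 10, 8, 6, 14,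 6, 8, 10, 4, 6, 8, 12, 10, 2, 0, 4, 2, 6, 4, 8, 6, 14, 6, 8, 4, 6, 2, 4, 0, 2, 4, 6, 8, 6, 4], [6, 16, 4, 8, 6, 8, 2, 4, 6, 14, 16, 8, 4, 6, 14, 10, 8, 6, 4, 2, 14, 16, 4, 8, 6, 14, 10, 2, 0, 4, 2, 6, 4, 8, 6, 14, 6, 8, 4, 6, 2, 4, 0, 2, 14, 6, 8, 4, 6, 14, 16, 10, 8, 12, 10, 2, 0, 4, 2, 6, 4, 8, 6, 14, 6, 8, 4, 6, 2, 4, 0, 2, 10, 12, 8, 10, 16, 14, 6, 4, 8, 6, 14, 16, 4, 6, 8, 10, 0, 4, 6, 16, 14, 6, 8, 4, 6, 14, 16, 10, 8, 12, 10, 2, 0, 4, 2, 6, 4, 8, 6, 14, 6, 8, 4, 6, 2, 4, 0, 2, 10, 12, 8, 10, 16, 14, 6, 4, 8, 6, 14, 16, 2, 0, 4, 2, 6, 4, 8, 6, 14, 6, 8, 4, 6, 2, 4, 0, 2, 6, 0, 12, 14, 10, 12, 8, 10, 2, 0, 4, 2, 6, 4, 8, 6, 14, 6, 8, 4, 6, 2, 4, 0, 2, 10, 8, 12, 10, 4, 6, 8, 4, 6, 4], [2, 4, 2, 0, 12, 14, 10, 8, 6, 14, 16, 2, 4, 6, 14, 10,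 8, 6, 4, 2, 4, 14, 16, 6, 14, 8, 12, 10, 2, 0, 4, 2, 6, 4, 8, 6, 14, 6, 8, 4, 6, 2, 4, 0, 2, 16, 6, 8, 10, 16, 14, 6, 8, 4, 6, 14, 16, 10, 8, 12, 10, 2, 0, 4, 2, 6, 4, 8, 6, 14, 6, 8, 4, 6, 2, 4, 0, 2, 10, 12, 8, 10, 16, 14, 6, 4, 8, 6, 14, 16, 4, 6, 8, 10, 16, 14, 6, 8, 4, 6, 14, 16, 10, 8, 12, 10, 2, 0, 4, 2, 6, 4, 8, 6, 14, 6, 8, 4, 6, 2, 4, 0, 2, 10, 12, 8, 10, 16, 14, 6, 4, 8, 6, 14, 16, 8, 4, 6, 14, 0, 4, 6, 4], [4, 12, 16, 8, 14, 6, 8, 2, 4, 6, 14, 16, 6, 8, 4, 6, 14, 12, 10, 8, 6, 2, 6, 4, 8, 6, 14, 6, 8, 4, 6, 2, 4, 0, 2, 12, 10, 2, 0, 4, 2, 6, 4, 8, 6, 14, 6, 8, 4, 6, 2, 4, 0, 2, 10, 12, 8, 10, 16, 14, 6, 4, 8, 6, 14, 16, 10, 6, 8, 12, 10, 16, 14, 6, 8, 4, 6, 14, 16, 10, 8, 12, 10, 2, 0, 4, 2, 6, 4, 8, 6, 14, 6, 8, 4, 6, 2, 4, 0, 2,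 10, 12, 8, 10, 16, 14, 6, 4, 8, 6, 14, 16, 8, 6, 14, 2, 0, 4, 2, 6, 4, 8, 6, 14, 6, 8, 4, 6, 2, 4, 0, 2, 4, 6], [0, 6, 2, 8, 4, 2, 10, 8, 6, 14, 16, 2, 4, 6, 14, 12, 10, 8, 6, 4, 2, 14, 16, 4, 6, 14, 12, 10, 2, 0, 4, 2, 6, 4, 8, 6, 14, 6, 8, 4, 6, 2, 4, 0, 2, 16, 10, 8, 4, 6, 16, 14, 6, 8, 4, 6, 14, 16, 10, 8, 12, 10, 2, 0, 4, 2, 6, 4, 8, 6, 14, 6, 8, 4, 6, 2, 4, 0, 2, 10, 12, 8, 10, 16, 14, 6, 4, 8, 6, 14, 16, 8, 10, 4, 6, 14, 6, 16, 14, 6, 8, 4, 6, 14, 16, 10, 8, 12, 10, 2, 0, 4, 2, 6, 4, 8, 6, 14, 6, 8, 4, 6, 2, 4, 0, 2, 10, 12, 8, 10, 16, 14, 6, 4, 8, 6, 14, 16, 12, 0, 12, 14, 10, 12, 8, 10, 2, 0, 4, 2, 6, 4, 8, 6, 14, 6, 8, 4, 6, 2, 4, 0, 2, 10, 8, 12, 10, 2, 0, 4, 2, 6, 4, 8, 6, 14, 6, 8, 4, 6, 2, 4, 0, 2, 6, 4], [10, 8, 6, 14, 16, 10,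 8, 4, 6, 14, 12, 10, 8, 6, 4, 2, 16, 8, 10, 2, 0, 4, 2, 6, 4, 8, 6, 14, 6, 8, 4, 6, 2, 4, 0, 2, 12, 10, 4, 6, 14, 16, 10, 8, 12, 10, 2, 0, 4, 2, 6, 4, 8, 6, 14, 6, 8, 4, 6, 2, 4, 0, 2, 10, 12, 8, 10, 16, 14, 6, 4, 8, 6, 14, 16, 4, 6, 8, 12, 10, 6, 16, 14, 6, 8, 4, 6, 14, 16, 10, 8, 12, 10, 2, 0, 4, 2, 6, 4, 8, 6, 14, 6, 8, 4, 6, 2, 4, 0, 2, 10, 12, 8, 10, 16, 14, 6, 4, 8, 6, 14, 16, 14, 0, 10, 12, 8, 6, 4, 10, 8, 6, 14, 6, 8, 10, 4, 6, 8, 12, 10, 6, 0, 12, 14, 10, 12, 8, 10, 2, 0, 4, 2, 6, 4, 8, 6, 14, 6, 8, 4, 6, 2, 4, 0, 2, 10, 8, 12, 10, 8], [16, 10, 8, 6, 14, 16, 4, 6, 8, 2, 4, 6, 14, 10, 8, 6, 4, 2, 8, 12, 10, 2, 0, 4, 2, 6, 4, 8, 6, 14, 6, 8, 4, 6, 2, 4, 0, 2, 10, 8, 6, 14, 16, 14, 8, 10, 4, 6, 8, 12, 16, 14, 6, 8, 4, 6, 14, 16, 10, 8,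 12, 10, 2, 0, 4, 2, 6, 4, 8, 6, 14, 6, 8, 4, 6, 2, 4, 0, 2, 10, 12, 8, 10, 16, 14, 6, 4, 8, 6, 14, 16, 6, 8, 10, 16, 14, 6, 8, 4, 6, 14, 16, 10, 8, 12, 10, 2, 0, 4, 2, 6, 4, 8, 6, 14, 6, 8, 4, 6, 2, 4, 0, 2, 10, 12, 8, 10, 16, 14, 6, 4, 8, 6, 14, 16, 4, 6, 8, 10, 6, 14, 6, 0, 12, 14, 10, 12, 8, 10, 2, 0, 4, 2, 6, 4, 8, 6, 14, 6, 8, 4, 6, 2, 4, 0, 2, 10, 8, 12, 10, 6, 8, 6, 4], [6, 8, 2, 4, 6, 14, 16, 10, 8, 4, 6, 14, 12, 10, 8, 6, 4, 2, 16, 12, 10, 2, 0, 4, 2, 6, 4, 8, 6, 14, 6, 8, 4, 6, 2, 4, 0, 2, 8, 6, 14, 16, 12, 14, 10, 8, 6, 16, 14, 6, 8, 4, 6, 14, 16, 10, 8, 12, 10, 2, 0, 4, 2, 6, 4, 8, 6, 14, 6, 8, 4, 6, 2, 4, 0, 2, 10, 12, 8, 10, 16, 14, 6, 4, 8, 6, 14, 16, 8, 10, 14, 12, 0, 10, 12, 8, 6, 4, 10, 8, 6, 14, 6, 8, 10, 4, 6, 8, 12, 10, 8,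 6, 0, 12, 14, 10, 12, 8, 10, 2, 0, 4, 2, 6, 4, 8, 6, 14, 6, 8, 4, 6, 2, 4, 0, 2, 10, 8, 12, 10, 6, 8, 6], [4, 2, 10, 8, 0, 2, 4, 6, 14, 16, 8, 2, 4, 6, 14, 12, 10, 8, 6, 4, 2, 16, 6, 8, 10, 2, 0, 4, 2, 6, 4, 8, 6, 14, 6, 8, 4, 6, 2, 4, 0, 2, 6, 4, 8, 6, 14, 16, 2, 0, 4, 2, 6, 4, 8, 6, 14, 6, 8, 4, 6, 2, 4, 0, 2, 6, 8, 12, 10, 2, 0, 4, 2, 6, 4, 8, 6, 14, 6, 8, 4, 6, 2, 4, 0, 2], [2, 6, 14, 6, 8, 4, 6, 14, 16, 14, 8, 10, 6, 8, 4, 6, 14, 12, 10, 8, 6, 4, 2, 8, 16, 2, 0, 4, 2, 6, 4, 8, 6, 14, 6, 8, 4, 6, 2, 4, 0, 2, 10, 14, 6, 4, 8, 6, 14, 16, 10, 6, 16, 14, 6, 8, 4, 6, 14, 16, 10, 8, 12, 10, 2, 0, 4, 2, 6, 4, 8, 6, 14, 6, 8, 4, 6, 2, 4, 0, 2, 10, 12, 8, 10, 16, 14, 6, 4, 8, 6, 14, 16, 6, 8, 10, 14, 12, 8, 6, 0, 12, 14, 10, 12, 8, 10, 2, 0, 4, 2,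 6, 4, 8, 6, 14, 6, 8, 4, 6, 2, 4, 0, 2, 10, 8, 12, 10, 4], [16, 2, 12, 14, 4, 8, 10, 6, 8, 4, 6, 14, 16, 14, 6, 8, 4, 6, 14, 12, 10, 8, 6, 4, 2, 4, 8, 6, 14, 12, 10, 2, 0, 4, 2, 6, 4, 8, 6, 14, 6, 8, 4, 6, 2, 4, 0, 2, 16, 6, 8, 4, 6, 16, 14, 6, 8, 4, 6, 14, 16, 10, 8, 12, 10, 2, 0, 4, 2, 6, 4, 8, 6, 14, 6, 8, 4, 6, 2, 4, 0, 2, 10, 12, 8, 10, 16, 14, 6, 4, 8, 6, 14, 16, 8, 10, 14, 0, 12, 14, 10, 12, 8, 10, 2, 0, 4, 2, 6, 4, 8, 6, 14, 6, 8, 4, 6, 2, 4, 0, 2, 10, 8, 12, 10, 2, 0, 4, 2, 6, 4, 8, 6, 14, 6, 8, 4, 6, 2, 4, 0, 2, 6, 8, 6, 4], [0, 14, 10, 6, 8, 4, 6, 14, 16, 6, 8, 2, 4, 6, 14, 12, 10, 8, 6, 4, 2, 14, 16, 4, 6, 14, 12, 10, 2, 0, 4, 2, 6, 4, 8, 6, 14, 6, 8, 4, 6, 2, 4, 0, 2, 16, 8, 12, 10, 6, 14, 0, 12, 14, 10, 12, 8, 10, 2, 0, 4, 2, 6,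 4, 8, 6, 14, 6, 8, 4, 6, 2, 4, 0, 2, 10, 8, 12, 10, 6, 8, 4], [2, 6, 0, 14, 12, 16, 14, 10, 6, 8, 2, 4, 6, 14, 16, 4, 6, 8, 2, 4, 6, 14, 12, 10, 8, 6, 4, 2, 14, 16, 4, 8, 6, 14, 10, 2, 0, 4, 2, 6, 4, 8, 6, 14, 6, 8, 4, 6, 2, 4, 0, 2, 16, 14, 8, 6, 10, 16, 14, 6, 8, 4, 6, 14, 16, 10, 8, 12, 10, 2, 0, 4, 2, 6, 4, 8, 6, 14, 6, 8, 4, 6, 2, 4, 0, 2, 10, 12, 8, 10, 16, 14, 6, 4, 8, 6, 14, 16, 8, 10, 14, 6, 8, 4, 6, 14, 0, 2, 0, 4, 2, 6, 4, 8, 6, 14, 6, 8, 4, 6, 2, 4, 0, 2, 6, 8, 6], [2, 4, 6, 14, 8, 10, 6, 8, 2, 4, 6, 14, 16, 8, 10, 4, 6, 8, 2, 4, 6, 14, 12, 10, 8, 6, 4, 2, 4, 14, 6, 8, 10, 2, 0, 4, 2, 6, 4, 8, 6, 14, 6, 8, 4, 6, 2, 4, 0, 2, 10, 8, 6, 14, 16, 8, 6, 14, 4, 6, 16, 14, 6, 8, 4, 6, 14, 16, 10, 8, 12, 10, 2, 0, 4, 2, 6, 4, 8, 6, 14, 6,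 8, 4, 6, 2, 4, 0, 2, 10, 12, 8, 10, 16, 14, 6, 4, 8, 6, 14, 16, 12, 10, 14, 6, 8, 4, 6, 14, 6, 4, 8, 6, 0, 12, 14, 10, 12, 8, 10, 2, 0, 4, 2, 6, 4, 8, 6, 14, 6, 8, 4, 6, 2, 4, 0, 2, 10, 8, 12, 10]]⟩
noncomputable def cu_lk : List ℕ := [1, 638, 983, 401, 1143]
noncomputable def cu_tl : List Level := [cu_l1, cu_l2, cu_l3, cu_l4, cu_l5]
noncomputable def cu_R0 : ℕ := 0x8000000000000000000000000000000000000000000000000000000000000000000000000000000000000000000010000000000000000000000000000000000000000000000000000000000000000000000000000000000000000000000000000000000000000001000000000020000000000000000000000020000000000000000040000001002000000400000000000400020000400000000000000000081000040880000000000000000040001020000000000040000010000c80000000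400110020002200000900400900000025400020000020000022000080000004048004d0898449200820d26022000000200000208e90014005990029d02043004300080e3000221512e0ca220b60c0008104eb2008149e80000005008caa34545308724382d0391c3520309634e40000301ea9601735412fcea05d0406001285098af4b07d0061e8b5735f37924ab67fbe1751faa7046d9af9ff59ceb8befabdfb1f32ffdc641ffbebefff83bfffff7cfdeebcfef7bffbfdfebf7bf7fbffff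
theorem cu_l0_ok : (ptsOK 12 [] && (wordsIn [0, 2, 4, 6, 8, 10, 12, 14, 16] cu_l0.S && cu_l0.ok 12 m_ns m_ts [])) = true := by decide +kernel
theorem cu_l1_ok : (ptsOK 12 [0] && (wordsIn [0, 2, 4, 6, 8, 10, 12, 14, 16] cu_l1.S && cu_l1.ok 12 m_ns m_ts [0])) = true := by decide +kernel
theorem cu_l2_ok : (ptsOK 12 [637, 0] && (wordsIn [0, 2, 4, 6, 8, 10, 12, 14, 16] cu_l2.S && cu_l2.ok 12 m_ns m_ts [637, 0])) = true := by decide +kernel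
theorem cu_l3_ok : (ptsOK 12 [982, 637, 0] && (wordsIn [0, 2, 4, 6, 8, 10, 12, 14, 16] cu_l3.S && cu_l3.ok 12 m_ns m_ts [982, 637, 0])) = true := by decide +kernel
theorem cu_l4_ok : cu_l4.okT 12 m_ts [0, 2, 4, 6, 8, 10, 12, 14, 16] [400, 982, 637, 0] (.cons [0] (.cons [2] .nil (.cons [4] (.cons [2] .nil .nil) (.cons [5] .nil .nil))) (.cons [1] (.cons [2] (.cons [4] .nil (.cons [5] .nil .nil)) (.cons [3] (.cons [3] .nil .nil) (.cons [4] (.cons [0] .nil (.cons [1] .nil .nil)) (.cons [5] (.cons [1] .nil (.cons [0] .nil .nil)) .nil)))) (.cons [3] (.cons [1] (.cons [3] .nil .nil) (.cons [5] (.cons [1] .nil .nil) .nil)) (.cons [4] (.cons [0] .nil .nil) (.cons [5] (.cons [0] .nil (.cons [1] (.cons [2] .nil .nil) (.cons [3] .nil .nil))) .nil))))) =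 true := by decide +kernel
theorem cu_l5_ok : cu_l5.okT 12 m_ts [0, 2, 4, 6, 8, 10, 12, 14, 16] [1142, 400, 982, 637, 0] (.cons [0] (.cons [2] .nil .nil) (.cons [2] .nil .nil)) = true := by decide +kernel
theorem cu_aux : cu_S.auxB [0, 2, 4, 6, 8, 10, 12, 14, 16] cu_ls [] (0 :: cu_lk) = true := by decide +kernel
theorem cu_cov : Nat.beq (Nat.land cu_l0.O (Srch.cover m_ns (invW cu_S.u') cu_R0 5)) cu_l0.O = true := by decide +kernel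
theorem cu_r0 : cu_S.run (.cons [] (.cons [] (.cons [] (.cons [] (.cons [] (.cons [] (.leaf 2000) .nil) .nil) .nil) .nil) .nil) (.cons [2] (.cons [12, 6, 4, 0, 2, 8, 4, 6, 16, 14] (.cons [10, 12, 4, 2, 8, 6, 12, 4] .nil .nil) .nil) (.cons [0, 2] .nil (.cons [4, 2] (.cons [4, 6, 4, 2, 0, 8, 14, 16, 6, 4, 2, 8, 14] .nil .nil) (.cons [4, 0, 2] .nil (.cons [6, 4, 2] .nil (.cons [2, 4, 0, 2] .nil (.cons [6, 4, 0, 2] .nil (.cons [8, 6, 4, 2] .nil (.cons [14, 6, 4, 2] .nil (.cons [6, 2, 4, 0, 2] .nil (.cons [8, 6, 4, 0, 2] .nil (.cons [14, 6, 4, 0, 2] .nil (.cons [10, 8, 6, 4, 2] .nil (.cons [14, 8, 6, 4, 2] (.cons [2, 0, 12, 6, 16, 6, 4, 2, 8, 14] (.cons [10, 8, 2, 0, 4, 2, 6] (.cons [2, 1, 2, 0] .nil .nil) .nil) .nil) (.cons [16, 14, 6, 4, 2] .nil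 (.cons [4, 6, 2, 4, 0, 2] .nil (.cons [8, 6, 2, 4, 0, 2] (.cons [6, 0, 4, 2, 0, 8, 14, 16, 6, 4, 2, 8, 14] (.cons [0, 8, 2, 4, 6, 14, 12] (.cons [0, 0, 2, 1, 1, 1, 1, 3] (.cons [2, 0] (.cons [] (.leaf 0) .nil) .nil) .nil) .nil) .nil) (.cons [10, 8, 6, 4, 0, 2] .nil (.cons [14, 8, 6, 4, 0, 2] .nil (.cons [16, 14, 6, 4, 0, 2] .nil (.cons [12, 10, 8, 6, 4, 2] .nil (.cons [14, 10, 8, 6, 4, 2] .nil (.cons [6, 14, 8, 6, 4, 2] .nil (.cons [16, 14, 8, 6, 4, 2] .nil (.cons [8, 4, 6, 2, 4, 0, 2] (.cons [0, 2, 14, 8, 0, 2, 4, 12, 6, 16, 14] .nil .nil) (.cons [10, 8, 6, 2, 4, 0, 2] (.cons [8, 4, 2, 14, 8, 0, 2, 4, 6, 16, 14] .nil .nil) (.cons [14, 8, 6, 2, 4, 0, 2] (.cons [14, 6, 4, 12, 6, 16, 2, 0, 4, 2, 8, 14] (.cons [6, 14, 0, 2, 0, 4, 2, 6] (.cons [2,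 1, 1, 3, 1, 1] (.cons [2, 1, 5] (.cons [] (.leaf 2) .nil) .nil) .nil) .nil) .nil) (.cons [16, 14, 6, 2, 4, 0, 2] .nil (.cons [12, 10, 8, 6, 4, 0, 2] .nil (.cons [14, 10, 8, 6, 4, 0, 2] .nil (.cons [6, 14, 8, 6, 4, 0, 2] .nil (.cons [14, 12, 10, 8, 6, 4, 2] (.cons [12, 6, 0, 4, 2, 8, 14] (.cons [8, 12, 10, 6, 4] (.cons [3, 1, 1, 1, 1, 2] .nil .nil) .nil) .nil) (.cons [6, 14, 10, 8, 6, 4, 2] .nil (.cons [16, 14, 10, 8, 6, 4, 2] .nil (.cons [4, 6, 14, 8, 6, 4, 2] .nil (.cons [6, 8, 4, 6, 2, 4, 0, 2] (.cons [2, 8, 14, 16, 4, 2, 8, 14] (.cons [4, 2, 8, 6, 14] .nil .nil) .nil) (.cons [10, 8, 4, 6, 2, 4, 0, 2] .nil (.cons [14, 8, 4, 6, 2, 4, 0, 2] (.cons [2, 0, 12, 8, 2, 4, 6, 14, 8, 2, 0, 4, 2, 8, 14] (.cons [2, 8, 6, 14, 0, 2, 8, 6] (.cons [0, 0,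 0, 0, 0, 0] .nil .nil) .nil) .nil) (.cons [6, 14, 4, 6, 2, 4, 0, 2] .nil (.cons [16, 14, 4, 6, 2, 4, 0, 2] .nil (.cons [12, 10, 8, 6, 2, 4, 0, 2] .nil (.cons [6, 14, 8, 6, 2, 4, 0, 2] .nil (.cons [14, 12, 10, 8, 6, 4, 0, 2] .nil (.cons [6, 14, 10, 8, 6, 4, 0, 2] .nil (.cons [16, 14, 10, 8, 6, 4, 0, 2] .nil (.cons [4, 6, 14, 8, 6, 4, 0, 2] .nil (.cons [16, 6, 14, 8, 6, 4, 0, 2] .nil (.cons [6, 14, 12, 10, 8, 6, 4, 2] (.cons [6, 16, 2, 0, 8, 2, 4, 6, 14, 8, 2, 0, 4, 2, 8, 14] (.cons [8, 10] (.cons [1, 1, 3] (.cons [0] (.cons [0] (.leaf 4) .nil) .nil) .nil) .nil) .nil) (.cons [16, 14, 12, 10, 8, 6, 4, 2] .nil (.cons [4, 6, 14, 10, 8, 6, 4, 2] .nil (.cons [16, 6, 14, 10, 8, 6, 4, 2] (.cons [8, 0, 2, 4, 6, 16, 14] (.cons [0, 2, 8, 10, 6] (.cons [1,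 1, 2, 0] (.cons [2, 4, 0] (.cons [2] (.leaf 6) .nil) .nil) .nil) .nil) .nil) (.cons [2, 4, 6, 14, 8, 6, 4, 2] (.cons [16, 12, 2, 4, 6, 8, 2, 0, 4, 2, 8, 14] (.cons [12, 8, 2, 10] (.cons [0, 2, 1, 3, 1] (.cons [3, 3, 1] (.cons [0] (.leaf 8) .nil) .nil) .nil) .nil) .nil) (.cons [16, 4, 6, 14, 8, 6, 4, 2] .nil (.cons [14, 16, 6, 14, 8, 6, 4, 2] .nil (.cons [10, 6, 8, 4, 6, 2, 4, 0, 2] .nil (.cons [12, 10, 8, 4, 6, 2, 4, 0, 2] (.cons [2, 12, 0, 2, 4, 6, 16, 12, 6, 4, 2, 8, 14] (.cons [14, 0, 2, 8, 10, 6] (.cons [2, 0, 0] (.cons [3, 1] (.cons [0] (.leaf 10) .nil) .nil) .nil) .nil) .nil) (.cons [14, 10, 8, 4, 6, 2, 4, 0, 2] .nil (.cons [16, 14, 8, 4, 6, 2, 4, 0, 2] .nil (.cons [14, 12, 10, 8, 6, 2, 4, 0, 2] (.cons [4, 6, 14, 8, 2, 0, 4, 2, 8, 14] (.cons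 [8, 12, 6, 14, 4, 2, 10, 6] (.cons [0, 0, 3, 1, 1, 2] (.cons [0, 4] (.cons [2, 0] (.leaf 12) .nil) .nil) .nil) .nil) .nil) (.cons [6, 14, 10, 8, 6, 2, 4, 0, 2] (.cons [0, 6, 4, 2, 14, 8, 0, 2, 4, 6, 16, 14] (.cons [14, 2, 10, 6] (.cons [0, 0, 0, 2, 0, 0] (.cons [0, 4] (.cons [2] (.leaf 14) .nil) .nil) .nil) .nil) .nil) (.cons [16, 14, 10, 8, 6, 2, 4, 0, 2] .nil (.cons [16, 6, 14, 8, 6, 2, 4, 0, 2] .nil (.cons [6, 14, 12, 10, 8, 6, 4, 0, 2] (.cons [6, 12, 4, 6, 14, 8, 2, 0, 4, 2, 8, 14] (.cons [10, 12, 6, 14] (.cons [3, 0, 2, 0, 0] (.cons [3, 1, 3] (.cons [0] (.leaf 16) .nil) .nil) .nil) .nil) .nil) (.cons [16, 14, 12, 10, 8, 6, 4, 0, 2] .nil (.cons [4, 6, 14, 10, 8, 6, 4, 0, 2] .nil (.cons [8, 6, 14, 10, 8, 6, 4, 0, 2] .nil (.cons [16, 6, 14,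 10, 8, 6, 4, 0, 2] (.cons [4, 6, 8, 2, 0, 4, 2, 8, 14] (.cons [10, 6, 4, 6, 14, 12] (.cons [0, 0, 0, 2, 1, 1] (.cons [5, 0] (.cons [0] (.leaf 18) .nil) .nil) .nil) .nil) .nil) (.cons [16, 4, 6, 14, 8, 6, 4, 0, 2] .nil (.cons [14, 16, 6, 14, 8, 6, 4, 0, 2] .nil (.cons [8, 6, 14, 12, 10, 8, 6, 4, 2] (.cons [14, 12, 6, 4, 2, 8, 12, 6, 16, 14] .nil .nil) (.cons [16, 6, 14, 12, 10, 8, 6, 4, 2] .nil (.cons [2, 4, 6, 14, 10, 8, 6, 4, 2] .nil (.cons [8, 4, 6, 14, 10, 8, 6, 4, 2] (.cons [2, 0, 4, 2, 8, 14, 16, 6, 4, 2, 8, 14] (.cons [14, 0, 2, 10] (.cons [0, 2, 1, 3, 1, 1, 1, 1] .nil .nil) .nil) .nil) (.cons [16, 8, 6, 14, 10, 8, 6, 4, 2] .nil (.cons [14, 16, 6, 14, 10, 8, 6, 4, 2] .nil (.cons [16, 2, 4, 6, 14, 8, 6, 4, 2] .nil (.cons [14, 16, 4, 6, 14,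 8, 6, 4, 2] .nil (.cons [12, 10, 6, 8, 4, 6, 2, 4, 0, 2] .nil (.cons [14, 12, 10, 8, 4, 6, 2, 4, 0, 2] .nil (.cons [16, 14, 10, 8, 4, 6, 2, 4, 0, 2] .nil (.cons [14, 16, 6, 14, 4, 6, 2, 4, 0, 2] (.cons [4, 6, 16, 2, 0, 4, 2, 8, 14] (.cons [0, 2, 8, 2] (.cons [3, 0, 0, 3] (.cons [1, 5, 3] (.cons [2] (.leaf 20) .nil) .nil) .nil) .nil) .nil) (.cons [6, 14, 12, 10, 8, 6, 2, 4, 0, 2] (.cons [8, 2, 14, 8, 0, 2, 4, 6, 16, 14] .nil .nil) (.cons [16, 14, 12, 10, 8, 6, 2, 4, 0, 2] .nil (.cons [8, 6, 14, 10, 8, 6, 2, 4, 0, 2] (.cons [14, 16, 0, 2, 4, 6, 14, 8, 2, 0, 4, 2, 8, 14] (.cons [8, 6, 14, 10] (.cons [1, 3, 0, 3, 3] .nil .nil) .nil) .nil) (.cons [4, 6, 14, 12, 10, 8, 6, 4, 0, 2] (.cons [14, 4, 0, 2, 8, 6, 4, 12, 6, 16, 14] (.cons [6, 2, 4, 6, 14,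 12] (.cons [0, 0, 2, 1, 3, 1] .nil .nil) .nil) .nil) (.cons [8, 6, 14, 12, 10, 8, 6, 4, 0, 2] (.cons [14, 2, 4, 12, 6, 16, 4, 2, 8, 14] (.cons [6, 4, 2, 8, 0, 4, 2, 6] (.cons [0, 0, 2, 1, 1, 1] .nil .nil) .nil) .nil) (.cons [16, 6, 14, 12, 10, 8, 6, 4, 0, 2] .nil (.cons [8, 4, 6, 14, 10, 8, 6, 4, 0, 2] .nil (.cons [16, 8, 6, 14, 10, 8, 6, 4, 0, 2] (.cons [0, 4, 2, 0, 8, 14, 16, 6, 4, 2, 8, 14] (.cons [8, 12, 6, 14, 4, 2, 6] (.cons [0, 2, 1, 2, 1, 1, 3, 1, 1] .nil .nil) .nil) .nil) (.cons [14, 16, 4, 6, 14, 8, 6, 4, 0, 2] .nil (.cons [2, 4, 6, 14, 12, 10, 8, 6, 4, 2] .nil (.cons [8, 4, 6, 14, 12, 10, 8, 6, 4, 2] .nil (.cons [10, 8, 6, 14, 12, 10, 8, 6, 4, 2] .nil (.cons [16, 8, 6, 14, 12, 10, 8, 6, 4, 2] .nil (.cons [14, 16, 6, 14, 12, 10, 8,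 6, 4, 2] .nil (.cons [8, 2, 4, 6, 14, 10, 8, 6, 4, 2] .nil (.cons [6, 8, 4, 6, 14, 10, 8, 6, 4, 2] .nil (.cons [16, 8, 4, 6, 14, 10, 8, 6, 4, 2] .nil (.cons [14, 16, 4, 6, 14, 10, 8, 6, 4, 2] .nil (.cons [14, 16, 8, 6, 14, 10, 8, 6, 4, 2] (.cons [0, 4, 2, 14, 8, 0, 2, 4, 6, 16, 14] (.cons [8, 12, 6, 14, 2, 10, 6] (.cons [1, 1, 3, 0] (.cons [2, 4, 0] (.cons [0] (.leaf 22) .nil) .nil) .nil) .nil) .nil) (.cons [14, 16, 2, 4, 6, 14, 8, 6, 4, 2] .nil (.cons [6, 14, 16, 4, 6, 14, 8, 6, 4, 2] (.cons [2, 8, 0, 2, 4, 12, 6, 16, 14] (.cons [10, 6, 4] (.cons [1, 1, 3, 3] (.cons [5, 3] (.cons [] (.leaf 24) .nil) .nil) .nil) .nil) .nil) (.cons [8, 6, 14, 12, 10, 8, 6, 2, 4, 0, 2] .nil (.cons [16, 6, 14, 12, 10, 8, 6, 2, 4, 0, 2] .nil (.cons [16, 8, 6, 14,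 10, 8, 6, 2, 4, 0, 2] .nil (.cons [14, 16, 6, 14, 10, 8, 6, 2, 4, 0, 2] .nil (.cons [8, 4, 6, 14, 12, 10, 8, 6, 4, 0, 2] (.cons [6, 12, 0, 2, 4, 6, 16, 12, 6, 4, 2, 8, 14] (.cons [8, 6, 4] (.cons [2, 1, 2, 1, 1, 3, 1, 1] (.cons [1, 5] (.cons [2] (.leaf 26) .nil) .nil) .nil) .nil) .nil) (.cons [10, 8, 6, 14, 12, 10, 8, 6, 4, 0, 2] .nil (.cons [16, 8, 6, 14, 12, 10, 8, 6, 4, 0, 2] (.cons [2, 8, 14, 0, 2, 8, 6, 16, 14] (.cons [12, 2, 8, 10] .nil .nil) .nil) (.cons [14, 16, 6, 14, 12, 10, 8, 6, 4, 0, 2] .nil (.cons [6, 8, 4, 6, 14, 10, 8, 6, 4, 0, 2] (.cons [6, 12, 2, 4, 6, 16, 12, 6, 4, 2, 8, 14] (.cons [8, 6, 4, 6] (.cons [0, 2, 1, 3, 1, 1, 3] .nil .nil) .nil) .nil) (.cons [16, 8, 4, 6, 14, 10, 8, 6, 4, 0, 2] .nil (.cons [14, 16, 4, 6, 14, 10,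 8, 6, 4, 0, 2] .nil (.cons [14, 16, 8, 6, 14, 10, 8, 6, 4, 0, 2] .nil (.cons [6, 14, 16, 4, 6, 14, 8, 6, 4, 0, 2] (.cons [12, 2, 4, 6, 8, 2, 0, 4, 2, 8, 14] (.cons [12, 6, 14, 4, 2, 6] (.cons [2, 0, 0, 0, 2, 1, 2, 0] (.cons [1, 4, 1] (.cons [2] (.leaf 28) .nil) .nil) .nil) .nil) .nil) (.cons [8, 2, 4, 6, 14, 12, 10, 8, 6, 4, 2] (.cons [0, 2, 14, 8, 0, 2, 4, 12, 6, 16, 14] (.cons [6] (.cons [3, 3, 1, 1, 1] (.cons [2, 4, 0] (.cons [2] (.leaf 30) .nil) .nil) .nil) .nil) .nil) (.cons [16, 2, 4, 6, 14, 12, 10, 8, 6, 4, 2] .nil (.cons [6, 8, 4, 6, 14, 12, 10, 8, 6, 4, 2] .nil (.cons [10, 8, 4, 6, 14, 12, 10, 8, 6, 4, 2] .nil (.cons [16, 8, 4, 6, 14, 12, 10, 8, 6, 4, 2] .nil (.cons [14, 16, 4, 6, 14, 12, 10, 8, 6, 4, 2] .nil (.cons [16, 10, 8, 6, 14,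 12, 10, 8, 6, 4, 2] (.cons [0, 6, 4, 2, 8, 0, 2, 6, 4, 12, 6, 16, 14] (.cons [0, 2, 10, 6] .nil .nil) .nil) (.cons [14, 16, 8, 6, 14, 12, 10, 8, 6, 4, 2] .nil (.cons [6, 8, 2, 4, 6, 14, 10, 8, 6, 4, 2] .nil (.cons [16, 8, 2, 4, 6, 14, 10, 8, 6, 4, 2] (.cons [16, 4, 6, 8, 2, 0, 4, 2, 8, 14] .nil .nil) (.cons [14, 16, 2, 4, 6, 14, 10, 8, 6, 4, 2] .nil (.cons [14, 6, 8, 4, 6, 14, 10, 8, 6, 4, 2] .nil (.cons [16, 6, 8, 4, 6, 14, 10, 8, 6, 4, 2] (.cons [4, 6, 16, 2, 4, 6, 14, 8, 2, 0, 4, 2, 8, 14] (.cons [8, 2, 0, 4, 2, 6] .nil .nil) .nil) (.cons [14, 16, 8, 4, 6, 14, 10, 8, 6, 4, 2] .nil (.cons [6, 14, 16, 8, 6, 14, 10, 8, 6, 4, 2] .nil (.cons [6, 14, 16, 2, 4, 6, 14, 8, 6, 4, 2] .nil (.cons [8, 6, 14, 16, 4, 6, 14, 8, 6, 4, 2] .nil (.cons [6, 8,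 4, 6, 14, 12, 10, 8, 6, 4, 0, 2] .nil (.cons [10, 8, 4, 6, 14, 12, 10, 8, 6, 4, 0, 2] .nil (.cons [16, 8, 4, 6, 14, 12, 10, 8, 6, 4, 0, 2] .nil (.cons [14, 16, 4, 6, 14, 12, 10, 8, 6, 4, 0, 2] .nil (.cons [16, 10, 8, 6, 14, 12, 10, 8, 6, 4, 0, 2] (.cons [14, 6, 16, 2, 0, 4, 2, 8, 14] (.cons [12, 2, 10] (.cons [1, 2, 0, 3, 0, 0, 3, 3] (.cons [1] (.cons [2, 0] (.leaf 32) .nil) .nil) .nil) .nil) .nil) (.cons [14, 16, 8, 6, 14, 12, 10, 8, 6, 4, 0, 2] .nil (.cons [14, 6, 8, 4, 6, 14, 10, 8, 6, 4, 0, 2] .nil (.cons [16, 6, 8, 4, 6, 14, 10, 8, 6, 4, 0, 2] .nil (.cons [14, 16, 8, 4, 6, 14, 10, 8, 6, 4, 0, 2] .nil (.cons [6, 14, 16, 4, 6, 14, 10, 8, 6, 4, 0, 2] .nil (.cons [6, 14, 16, 8, 6, 14, 10, 8, 6, 4, 0, 2] .nil (.cons [8, 6, 14, 16, 4, 6, 14, 8,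 6, 4, 0, 2] .nil (.cons [6, 8, 2, 4, 6, 14, 12, 10, 8, 6, 4, 2] .nil (.cons [16, 8, 2, 4, 6, 14, 12, 10, 8, 6, 4, 2] .nil (.cons [14, 16, 2, 4, 6, 14, 12, 10, 8, 6, 4, 2] .nil (.cons [10, 6, 8, 4, 6, 14, 12, 10, 8, 6, 4, 2] .nil (.cons [14, 6, 8, 4, 6, 14, 12, 10, 8, 6, 4, 2] .nil (.cons [16, 6, 8, 4, 6, 14, 12, 10, 8, 6, 4, 2] .nil (.cons [14, 16, 8, 4, 6, 14, 12, 10, 8, 6, 4, 2] .nil (.cons [14, 16, 10, 8, 6, 14, 12, 10, 8, 6, 4, 2] (.cons [0, 2, 8, 12, 6, 16, 14] (.cons [4, 2, 8, 2, 6, 14] (.cons [1, 1, 2, 1] (.cons [3, 1] (.cons [] (.leaf 34) .nil) .nil) .nil) .nil) .nil) (.cons [6, 14, 16, 8, 6, 14, 12, 10, 8, 6, 4, 2] .nil (.cons [4, 6, 8, 2, 4, 6, 14, 10, 8, 6, 4, 2] .nil (.cons [14, 6, 8, 2, 4, 6, 14, 10, 8, 6, 4, 2] .nil (.cons [16,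 6, 8, 2, 4, 6, 14, 10, 8, 6, 4, 2] .nil (.cons [6, 14, 16, 2, 4, 6, 14, 10, 8, 6, 4, 2] .nil (.cons [16, 14, 6, 8, 4, 6, 14, 10, 8, 6, 4, 2] .nil (.cons [14, 16, 6, 8, 4, 6, 14, 10, 8, 6, 4, 2] .nil (.cons [6, 14, 16, 8, 4, 6, 14, 10, 8, 6, 4, 2] .nil (.cons [8, 6, 14, 16, 4, 6, 14, 10, 8, 6, 4, 2] (.cons [6, 2, 0, 8, 14, 16, 6, 4, 2, 8, 14] (.cons [14, 10, 0, 2, 8, 2] .nil .nil) .nil) (.cons [4, 6, 14, 16, 8, 6, 14, 10, 8, 6, 4, 2] (.cons [8, 14, 0, 2, 8, 6, 16, 14] (.cons [8, 6, 14, 4, 2, 10, 6] (.cons [2, 2, 0, 0, 3, 1, 1] .nil .nil) .nil) .nil) (.cons [4, 6, 14, 16, 2, 4, 6, 14, 8, 6, 4, 2] .nil (.cons [8, 6, 14, 16, 2, 4, 6, 14, 8, 6, 4, 2] .nil (.cons [10, 8, 6, 14, 16, 4, 6, 14, 8, 6, 4, 2] .nil (.cons [16, 10, 8, 6, 14, 12, 10, 8, 6,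 2, 4, 0, 2] .nil (.cons [16, 10, 8, 4, 6, 14, 12, 10, 8, 6, 4, 0, 2] .nil (.cons [14, 16, 10, 8, 6, 14, 12, 10, 8, 6, 4, 0, 2] .nil (.cons [6, 14, 16, 8, 6, 14, 12, 10, 8, 6, 4, 0, 2] .nil (.cons [8, 6, 14, 16, 4, 6, 14, 10, 8, 6, 4, 0, 2] .nil (.cons [4, 6, 14, 16, 8, 6, 14, 10, 8, 6, 4, 0, 2] .nil (.cons [10, 8, 6, 14, 16, 4, 6, 14, 8, 6, 4, 0, 2] .nil (.cons [10, 6, 8, 2, 4, 6, 14, 12, 10, 8, 6, 4, 2] .nil (.cons [14, 6, 8, 2, 4, 6, 14, 12, 10, 8, 6, 4, 2] .nil (.cons [16, 6, 8, 2, 4, 6, 14, 12, 10, 8, 6, 4, 2] .nil (.cons [16, 10, 8, 2, 4, 6, 14, 12, 10, 8, 6, 4, 2] .nil (.cons [14, 16, 8, 2, 4, 6, 14, 12, 10, 8, 6, 4, 2] .nil (.cons [6, 14, 16, 2, 4, 6, 14, 12, 10, 8, 6, 4, 2] (.cons [16, 12, 2, 4, 6, 8, 2, 0, 4, 2, 8, 14] .nil .nil) (.cons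 [8, 10, 6, 8, 4, 6, 14, 12, 10, 8, 6, 4, 2] .nil (.cons [14, 10, 6, 8, 4, 6, 14, 12, 10, 8, 6, 4, 2] .nil (.cons [16, 10, 6, 8, 4, 6, 14, 12, 10, 8, 6, 4, 2] .nil (.cons [16, 14, 6, 8, 4, 6, 14, 12, 10, 8, 6, 4, 2] .nil (.cons [14, 16, 10, 8, 4, 6, 14, 12, 10, 8, 6, 4, 2] .nil (.cons [6, 14, 16, 10, 8, 6, 14, 12, 10, 8, 6, 4, 2] .nil (.cons [4, 6, 14, 16, 8, 6, 14, 12, 10, 8, 6, 4, 2] .nil (.cons [16, 14, 6, 8, 2, 4, 6, 14, 10, 8, 6, 4, 2] .nil (.cons [14, 16, 6, 8, 2, 4, 6, 14, 10, 8, 6, 4, 2] .nil (.cons [6, 14, 16, 8, 2, 4, 6, 14, 10, 8, 6, 4, 2] .nil (.cons [4, 6, 14, 16, 2, 4, 6, 14, 10, 8, 6, 4, 2] .nil (.cons [8, 6, 14, 16, 2, 4, 6, 14, 10, 8, 6, 4, 2] .nil (.cons [8, 6, 14, 16, 8, 4, 6, 14, 10, 8, 6, 4, 2] .nil (.cons [10, 8, 6, 14, 16,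 4, 6, 14, 10, 8, 6, 4, 2] .nil (.cons [8, 4, 6, 14, 16, 2, 4, 6, 14, 8, 6, 4, 2] .nil (.cons [10, 8, 6, 14, 16, 2, 4, 6, 14, 8, 6, 4, 2] .nil (.cons [12, 10, 8, 6, 14, 16, 4, 6, 14, 8, 6, 4, 2] .nil (.cons [14, 16, 10, 8, 6, 14, 12, 10, 8, 6, 2, 4, 0, 2] (.cons [4, 12, 6, 16, 8, 2, 0, 4, 2, 8, 14] (.cons [4, 6, 14, 4, 2, 10, 6] (.cons [0, 0, 0, 3, 0] .nil .nil) .nil) .nil) (.cons [6, 14, 16, 8, 6, 14, 12, 10, 8, 6, 2, 4, 0, 2] .nil (.cons [4, 6, 14, 16, 8, 6, 14, 10, 8, 6, 2, 4, 0, 2] (.cons [8, 2, 6, 4, 12, 6, 16, 14] .nil .nil) (.cons [14, 10, 6, 8, 4, 6, 14, 12, 10, 8, 6, 4, 0, 2] .nil (.cons [16, 10, 6, 8, 4, 6, 14, 12, 10, 8, 6, 4, 0, 2] (.cons [6, 2, 8, 14, 16, 6, 4, 2, 8, 14] .nil .nil) (.cons [16, 14, 6, 8, 4, 6, 14, 12, 10, 8, 6, 4,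 0, 2] (.cons [8, 2, 4, 0, 2, 8, 2, 4, 12, 6, 16, 14] (.cons [14, 12, 4] (.cons [1, 2, 0, 0, 3, 1] (.cons [4] (.cons [2, 0] (.leaf 36) .nil) .nil) .nil) .nil) .nil) (.cons [14, 16, 6, 8, 4, 6, 14, 12, 10, 8, 6, 4, 0, 2] .nil (.cons [6, 14, 16, 8, 4, 6, 14, 12, 10, 8, 6, 4, 0, 2] .nil (.cons [6, 14, 16, 10, 8, 6, 14, 12, 10, 8, 6, 4, 0, 2] .nil (.cons [14, 16, 14, 6, 8, 4, 6, 14, 10, 8, 6, 4, 0, 2] .nil (.cons [6, 14, 16, 6, 8, 4, 6, 14, 10, 8, 6, 4, 0, 2] .nil (.cons [4, 6, 14, 16, 8, 4, 6, 14, 10, 8, 6, 4, 0, 2] .nil (.cons [8, 6, 14, 16, 8, 4, 6, 14, 10, 8, 6, 4, 0, 2] .nil (.cons [10, 8, 6, 14, 16, 4, 6, 14, 10, 8, 6, 4, 0, 2] .nil (.cons [12, 10, 8, 6, 14, 16, 4, 6, 14, 8, 6, 4, 0, 2] .nil (.cons [10, 4, 6, 8, 2, 4, 6, 14, 12, 10, 8, 6, 4,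 2] .nil (.cons [14, 4, 6, 8, 2, 4, 6, 14, 12, 10, 8, 6, 4, 2] .nil (.cons [16, 4, 6, 8, 2, 4, 6, 14, 12, 10, 8, 6, 4, 2] .nil (.cons [8, 10, 6, 8, 2, 4, 6, 14, 12, 10, 8, 6, 4, 2] (.cons [12, 6, 8, 2, 0, 4, 2, 8, 14] (.cons [2, 8, 4, 10] (.cons [0, 3, 0, 2, 1, 2, 0] (.cons [5, 1] (.cons [] (.leaf 38) .nil) .nil) .nil) .nil) .nil) (.cons [16, 10, 6, 8, 2, 4, 6, 14, 12, 10, 8, 6, 4, 2] .nil (.cons [6, 14, 16, 8, 2, 4, 6, 14, 12, 10, 8, 6, 4, 2] .nil (.cons [4, 6, 14, 16, 2, 4, 6, 14, 12, 10, 8, 6, 4, 2] .nil (.cons [8, 6, 14, 16, 2, 4, 6, 14, 12, 10, 8, 6, 4, 2] .nil (.cons [16, 8, 10, 6, 8, 4, 6, 14, 12, 10, 8, 6, 4, 2] .nil (.cons [14, 16, 10, 6, 8, 4, 6, 14, 12, 10, 8, 6, 4, 2] (.cons [0, 6, 4, 2, 8, 0, 2, 4, 12, 6, 16, 14] (.cons [10, 0, 2,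 8, 6, 12, 4] .nil .nil) .nil) (.cons [14, 16, 14, 6, 8, 4, 6, 14, 12, 10, 8, 6, 4, 2] .nil (.cons [6, 14, 16, 6, 8, 4, 6, 14, 12, 10, 8, 6, 4, 2] .nil (.cons [8, 6, 14, 16, 8, 4, 6, 14, 12, 10, 8, 6, 4, 2] (.cons [4, 6, 16, 8, 2, 4, 6, 14, 8, 2, 0, 4, 2, 8, 14] (.cons [8, 6, 14, 0, 2, 6] .nil .nil) .nil) (.cons [10, 8, 6, 14, 16, 4, 6, 14, 12, 10, 8, 6, 4, 2] (.cons [14, 6, 4, 2, 8, 4, 12, 6, 16, 14] (.cons [4, 2, 8, 4, 2, 6, 14] (.cons [2, 0, 3, 1, 1] (.cons [3, 1] (.cons [0] (.leaf 40) .nil) .nil) .nil) .nil) .nil) (.cons [4, 6, 14, 16, 10, 8, 6, 14, 12, 10, 8, 6, 4, 2] .nil (.cons [6, 14, 4, 6, 8, 2, 4, 6, 14, 10, 8, 6, 4, 2] (.cons [16, 4, 6, 2, 0, 4, 2, 8, 14] (.cons [14, 10] (.cons [3, 0, 2, 0, 0, 0, 2] (.cons [3] (.cons [] (.leaf 42) .nil)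 .nil) .nil) .nil) .nil) (.cons [16, 14, 4, 6, 8, 2, 4, 6, 14, 10, 8, 6, 4, 2] .nil (.cons [14, 16, 14, 6, 8, 2, 4, 6, 14, 10, 8, 6, 4, 2] .nil (.cons [4, 6, 14, 16, 8, 2, 4, 6, 14, 10, 8, 6, 4, 2] .nil (.cons [8, 6, 14, 16, 8, 2, 4, 6, 14, 10, 8, 6, 4, 2] .nil (.cons [8, 4, 6, 14, 16, 2, 4, 6, 14, 10, 8, 6, 4, 2] .nil (.cons [10, 8, 6, 14, 16, 2, 4, 6, 14, 10, 8, 6, 4, 2] .nil (.cons [6, 14, 16, 14, 6, 8, 4, 6, 14, 10, 8, 6, 4, 2] .nil (.cons [4, 6, 14, 16, 6, 8, 4, 6, 14, 10, 8, 6, 4, 2] .nil (.cons [8, 6, 14, 16, 6, 8, 4, 6, 14, 10, 8, 6, 4, 2] .nil (.cons [2, 4, 6, 14, 16, 8, 4, 6, 14, 10, 8, 6, 4, 2] .nil (.cons [8, 4, 6, 14, 16, 8, 4, 6, 14, 10, 8, 6, 4, 2] (.cons [6, 8, 14, 16, 6, 4, 2, 8, 14] (.cons [4, 2, 8, 12, 6, 14] (.cons [3, 0, 2]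 .nil .nil) .nil) .nil) (.cons [0, 2, 4, 6, 14, 16, 8, 6, 14, 10, 8, 6, 4, 2] .nil (.cons [6, 8, 4, 6, 14, 16, 2, 4, 6, 14, 8, 6, 4, 2] .nil (.cons [10, 8, 4, 6, 14, 16, 2, 4, 6, 14, 8, 6, 4, 2] .nil (.cons [12, 10, 8, 6, 14, 16, 2, 4, 6, 14, 8, 6, 4, 2] .nil (.cons [6, 14, 16, 10, 8, 6, 14, 12, 10, 8, 6, 2, 4, 0, 2] (.cons [14, 8, 2, 4, 6, 16, 14] .nil .nil) (.cons [2, 4, 6, 14, 16, 8, 6, 14, 10, 8, 6, 2, 4, 0, 2] .nil (.cons [16, 8, 10, 6, 8, 4, 6, 14, 12, 10, 8, 6, 4, 0, 2] .nil (.cons [16, 14, 10, 6, 8, 4, 6, 14, 12, 10, 8, 6, 4, 0, 2] .nil (.cons [6, 14, 16, 6, 8, 4, 6, 14, 12, 10, 8, 6, 4, 0, 2] .nil (.cons [6, 14, 16, 10, 8, 4, 6, 14, 12, 10, 8, 6, 4, 0, 2] .nil (.cons [8, 6, 14, 16, 8, 4, 6, 14, 12, 10, 8, 6, 4, 0, 2] .nil (.cons [10,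 8, 6, 14, 16, 4, 6, 14, 12, 10, 8, 6, 4, 0, 2] .nil (.cons [8, 6, 14, 16, 10, 8, 6, 14, 12, 10, 8, 6, 4, 0, 2] .nil (.cons [2, 4, 6, 14, 16, 8, 6, 14, 12, 10, 8, 6, 4, 0, 2] .nil (.cons [2, 4, 6, 14, 16, 8, 4, 6, 14, 10, 8, 6, 4, 0, 2] .nil (.cons [14, 10, 4, 6, 8, 2, 4, 6, 14, 12, 10, 8, 6, 4, 2] .nil (.cons [16, 10, 4, 6, 8, 2, 4, 6, 14, 12, 10, 8, 6, 4, 2] .nil (.cons [6, 14, 4, 6, 8, 2, 4, 6, 14, 12, 10, 8, 6, 4, 2] .nil (.cons [14, 8, 10, 6, 8, 2, 4, 6, 14, 12, 10, 8, 6, 4, 2] .nil (.cons [16, 14, 10, 6, 8, 2, 4, 6, 14, 12, 10, 8, 6, 4, 2] .nil (.cons [14, 16, 14, 6, 8, 2, 4, 6, 14, 12, 10, 8, 6, 4, 2] .nil (.cons [6, 14, 16, 10, 8, 2, 4, 6, 14, 12, 10, 8, 6, 4, 2] (.cons [16, 4, 6, 8, 2, 0, 4, 2, 8, 14] .nil .nil) (.cons [4, 6, 14, 16,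 8, 2, 4, 6, 14, 12, 10, 8, 6, 4, 2] (.cons [8, 14, 2, 8, 6, 16, 14] (.cons [2, 8, 2, 6, 14, 12] (.cons [1, 3, 0, 3, 0] .nil .nil) .nil) .nil) (.cons [8, 6, 14, 16, 8, 2, 4, 6, 14, 12, 10, 8, 6, 4, 2] .nil (.cons [8, 4, 6, 14, 16, 2, 4, 6, 14, 12, 10, 8, 6, 4, 2] .nil (.cons [10, 8, 6, 14, 16, 2, 4, 6, 14, 12, 10, 8, 6, 4, 2] .nil (.cons [6, 14, 8, 10, 6, 8, 4, 6, 14, 12, 10, 8, 6, 4, 2] .nil (.cons [6, 14, 16, 10, 6, 8, 4, 6, 14, 12, 10, 8, 6, 4, 2] (.cons [4, 12, 6, 16, 8, 2, 0, 4, 2, 8, 14] (.cons [14, 2, 8, 2, 10, 6] (.cons [2, 1, 1, 3] .nil .nil) .nil) .nil) (.cons [4, 6, 14, 16, 6, 8, 4, 6, 14, 12, 10, 8, 6, 4, 2] (.cons [8, 14, 16, 0, 2, 8, 14] .nil .nil) (.cons [4, 6, 14, 16, 10, 8, 4, 6, 14, 12, 10, 8, 6, 4, 2] .nil (.cons [8, 6, 14,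 16, 10, 8, 4, 6, 14, 12, 10, 8, 6, 4, 2] (.cons [6, 16, 6, 12, 4, 6, 8, 2, 0, 4, 2, 8, 14] (.cons [4, 2, 6, 14] (.cons [2, 1, 1, 1] .nil .nil) .nil) .nil) (.cons [2, 4, 6, 14, 16, 8, 4, 6, 14, 12, 10, 8, 6, 4, 2] .nil (.cons [10, 8, 6, 14, 16, 8, 4, 6, 14, 12, 10, 8, 6, 4, 2] (.cons [12, 4, 6, 16, 12, 6, 4, 2, 8, 14] (.cons [0, 2, 8, 6, 14, 12] (.cons [3, 1, 2, 1, 1] .nil .nil) .nil) .nil) (.cons [8, 6, 14, 4, 6, 8, 2, 4, 6, 14, 10, 8, 6, 4, 2] (.cons [2, 0, 14, 12, 6, 16, 6, 4, 2, 8, 14] .nil .nil) (.cons [16, 6, 14, 4, 6, 8, 2, 4, 6, 14, 10, 8, 6, 4, 2] .nil (.cons [14, 16, 14, 4, 6, 8, 2, 4, 6, 14, 10, 8, 6, 4, 2] .nil (.cons [6, 14, 16, 4, 6, 8, 2, 4, 6, 14, 10, 8, 6, 4, 2] .nil (.cons [6, 14, 16, 14, 6, 8, 2, 4, 6, 14, 10, 8, 6, 4, 2] .nil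 (.cons [8, 6, 14, 16, 6, 8, 2, 4, 6, 14, 10, 8, 6, 4, 2] .nil (.cons [2, 4, 6, 14, 16, 8, 2, 4, 6, 14, 10, 8, 6, 4, 2] (.cons [8, 14, 2, 8, 6, 16, 14] (.cons [6, 10, 2, 12, 6, 14] (.cons [2, 1, 3, 0] (.cons [5, 0] (.cons [2, 0] (.leaf 44) .nil) .nil) .nil) .nil) .nil) (.cons [8, 4, 6, 14, 16, 8, 2, 4, 6, 14, 10, 8, 6, 4, 2] .nil (.cons [10, 8, 6, 14, 16, 8, 2, 4, 6, 14, 10, 8, 6, 4, 2] .nil (.cons [6, 8, 4, 6, 14, 16, 2, 4, 6, 14, 10, 8, 6, 4, 2] .nil (.cons [10, 8, 4, 6, 14, 16, 2, 4, 6, 14, 10, 8, 6, 4, 2] .nil (.cons [12, 10, 8, 6, 14, 16, 2, 4, 6, 14, 10, 8, 6, 4, 2] (.cons [12, 6, 16, 2, 0, 4, 2, 8, 14] (.cons [2, 10, 6] (.cons [1, 2, 0, 3, 1, 1, 2, 1] (.cons [2, 1, 5] (.cons [0] (.leaf 46) .nil) .nil) .nil) .nil) .nil) (.cons [4, 6, 14,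 16, 14, 6, 8, 4, 6, 14, 10, 8, 6, 4, 2] (.cons [8, 4, 2, 14, 8, 0, 2, 4, 6, 16, 14] (.cons [10, 2, 12, 8, 4] .nil .nil) .nil) (.cons [8, 4, 6, 14, 16, 6, 8, 4, 6, 14, 10, 8, 6, 4, 2] .nil (.cons [10, 8, 6, 14, 16, 6, 8, 4, 6, 14, 10, 8, 6, 4, 2] .nil (.cons [8, 2, 4, 6, 14, 16, 8, 4, 6, 14, 10, 8, 6, 4, 2] .nil (.cons [10, 8, 4, 6, 14, 16, 8, 4, 6, 14, 10, 8, 6, 4, 2] .nil (.cons [10, 6, 8, 4, 6, 14, 16, 2, 4, 6, 14, 8, 6, 4, 2] .nil (.cons [12, 10, 8, 4, 6, 14, 16, 2, 4, 6, 14, 8, 6, 4, 2] (.cons [12, 4, 6, 2, 0, 4, 2, 8, 14] (.cons [14, 10, 8, 0, 4, 2, 6] .nil .nil) .nil) (.cons [8, 6, 14, 16, 10, 8, 6, 14, 12, 10, 8, 6, 2, 4, 0, 2] .nil (.cons [6, 14, 8, 10, 6, 8, 4, 6, 14, 12, 10, 8, 6, 4, 0, 2] .nil (.cons [14, 16, 14, 10, 6, 8, 4, 6, 14,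 12, 10, 8, 6, 4, 0, 2] .nil (.cons [4, 6, 14, 16, 6, 8, 4, 6, 14, 12, 10, 8, 6, 4, 0, 2] .nil (.cons [8, 6, 14, 16, 10, 8, 4, 6, 14, 12, 10, 8, 6, 4, 0, 2] .nil (.cons [2, 4, 6, 14, 16, 8, 4, 6, 14, 12, 10, 8, 6, 4, 0, 2] .nil (.cons [8, 4, 6, 14, 16, 8, 4, 6, 14, 12, 10, 8, 6, 4, 0, 2] .nil (.cons [10, 8, 6, 14, 16, 8, 4, 6, 14, 12, 10, 8, 6, 4, 0, 2] .nil (.cons [2, 4, 6, 14, 16, 10, 8, 6, 14, 12, 10, 8, 6, 4, 0, 2] .nil (.cons [8, 4, 6, 14, 16, 10, 8, 6, 14, 12, 10, 8, 6, 4, 0, 2] (.cons [14, 16, 0, 2, 4, 6, 14, 8, 2, 0, 4, 2, 8, 14] (.cons [8, 2, 10] (.cons [0, 2, 0, 0, 0, 2, 1] .nil .nil) .nil) .nil) (.cons [8, 6, 14, 16, 14, 6, 8, 4, 6, 14, 10, 8, 6, 4, 0, 2] .nil (.cons [2, 4, 6, 14, 16, 6, 8, 4, 6, 14, 10, 8, 6, 4, 0, 2] .nil (.cons [8,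 4, 6, 14, 16, 6, 8, 4, 6, 14, 10, 8, 6, 4, 0, 2] .nil (.cons [10, 8, 6, 14, 16, 6, 8, 4, 6, 14, 10, 8, 6, 4, 0, 2] (.cons [8, 14, 4, 2, 8, 12, 6, 16, 14] (.cons [14, 0, 2, 8, 4] (.cons [2, 0, 0, 3, 1, 1, 2] (.cons [3, 1] (.cons [0] (.leaf 48) .nil) .nil) .nil) .nil) .nil) (.cons [0, 2, 4, 6, 14, 16, 8, 4, 6, 14, 10, 8, 6, 4, 0, 2] .nil (.cons [10, 8, 4, 6, 14, 16, 8, 4, 6, 14, 10, 8, 6, 4, 0, 2] .nil (.cons [6, 8, 10, 4, 6, 8, 2, 4, 6, 14, 12, 10, 8, 6, 4, 2] .nil (.cons [14, 8, 10, 4, 6, 8, 2, 4, 6, 14, 12, 10, 8, 6, 4, 2] .nil (.cons [16, 14, 10, 4, 6, 8, 2, 4, 6, 14, 12, 10, 8, 6, 4, 2] .nil (.cons [14, 16, 10, 4, 6, 8, 2, 4, 6, 14, 12, 10, 8, 6, 4, 2] .nil (.cons [8, 6, 14, 4, 6, 8, 2, 4, 6, 14, 12, 10, 8, 6, 4, 2] .nil (.cons [14, 16, 14,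 4, 6, 8, 2, 4, 6, 14, 12, 10, 8, 6, 4, 2] (.cons [8, 2, 4, 6, 16, 12, 6, 4, 2, 8, 14] (.cons [8, 10, 0, 2, 6, 14] .nil .nil) .nil) (.cons [6, 14, 8, 10, 6, 8, 2, 4, 6, 14, 12, 10, 8, 6, 4, 2] (.cons [6, 0, 8, 14, 16, 6, 4, 2, 8, 14] (.cons [12, 6, 4] (.cons [1, 2, 1, 1, 1, 1, 2] .nil .nil) .nil) .nil) (.cons [14, 16, 8, 10, 6, 8, 2, 4, 6, 14, 12, 10, 8, 6, 4, 2] (.cons [2, 4, 0, 2, 8, 4, 6, 16, 14] .nil .nil) (.cons [14, 16, 14, 10, 6, 8, 2, 4, 6, 14, 12, 10, 8, 6, 4, 2] (.cons [14, 16, 8, 14] .nil .nil) (.cons [6, 14, 16, 14, 6, 8, 2, 4, 6, 14, 12, 10, 8, 6, 4, 2] .nil (.cons [8, 6, 14, 16, 10, 8, 2, 4, 6, 14, 12, 10, 8, 6, 4, 2] (.cons [8, 2, 14, 8, 2, 6, 4, 12, 6, 16, 14] (.cons [6, 14, 12, 4] (.cons [0, 3, 0, 2, 0] .nil .nil) .nil) .nil)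 (.cons [8, 4, 6, 14, 16, 8, 2, 4, 6, 14, 12, 10, 8, 6, 4, 2] .nil (.cons [10, 8, 6, 14, 16, 8, 2, 4, 6, 14, 12, 10, 8, 6, 4, 2] (.cons [14, 2, 8, 12, 6, 16, 14] (.cons [2, 8, 4, 6, 14, 4, 2, 10, 6] (.cons [3, 1, 1, 2] (.cons [2, 0] (.cons [] (.leaf 50) .nil) .nil) .nil) .nil) .nil) (.cons [6, 8, 4, 6, 14, 16, 2, 4, 6, 14, 12, 10, 8, 6, 4, 2] (.cons [6, 16, 2, 0, 4, 2, 8, 14] (.cons [12, 6, 14, 4, 2, 10, 6] (.cons [3, 1, 1, 3, 1, 1] .nil .nil) .nil) .nil) (.cons [10, 8, 4, 6, 14, 16, 2, 4, 6, 14, 12, 10, 8, 6, 4, 2] .nil (.cons [6, 14, 16, 8, 10, 6, 8, 4, 6, 14, 12, 10, 8, 6, 4, 2] .nil (.cons [6, 14, 16, 14, 10, 6, 8, 4, 6, 14, 12, 10, 8, 6, 4, 2] (.cons [4, 2, 8, 0, 2, 6, 4, 12, 6, 16, 14] (.cons [0, 10, 2, 8, 0, 2] .nil .nil) .nil) (.cons [10,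 8, 6, 14, 16, 10, 8, 4, 6, 14, 12, 10, 8, 6, 4, 2] (.cons [14, 4, 6, 16, 12, 6, 4, 2, 8, 14] (.cons [14, 12, 8, 4] (.cons [1, 1, 1, 1, 2, 1, 1] (.cons [0] (.cons [2, 0] (.leaf 52) .nil) .nil) .nil) .nil) .nil) (.cons [8, 2, 4, 6, 14, 16, 8, 4, 6, 14, 12, 10, 8, 6, 4, 2] .nil (.cons [10, 8, 4, 6, 14, 16, 8, 4, 6, 14, 12, 10, 8, 6, 4, 2] .nil (.cons [12, 10, 8, 6, 14, 16, 8, 4, 6, 14, 12, 10, 8, 6, 4, 2] .nil (.cons [0, 2, 4, 6, 14, 16, 10, 8, 6, 14, 12, 10, 8, 6, 4, 2] .nil (.cons [8, 2, 4, 6, 14, 16, 10, 8, 6, 14, 12, 10, 8, 6, 4, 2] .nil (.cons [4, 6, 14, 16, 4, 6, 8, 2, 4, 6, 14, 10, 8, 6, 4, 2] (.cons [8, 14, 0, 2, 8, 6, 16, 14] (.cons [8, 12, 6, 14, 2, 8, 6] .nil .nil) .nil) (.cons [8, 6, 14, 16, 4, 6, 8, 2, 4, 6, 14, 10, 8, 6, 4, 2] .nil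 (.cons [8, 6, 14, 16, 14, 6, 8, 2, 4, 6, 14, 10, 8, 6, 4, 2] .nil (.cons [10, 8, 6, 14, 16, 6, 8, 2, 4, 6, 14, 10, 8, 6, 4, 2] (.cons [14, 2, 8, 6, 16, 14] (.cons [2, 8, 4, 10] (.cons [0, 0, 2, 1] .nil .nil) .nil) .nil) (.cons [8, 2, 4, 6, 14, 16, 8, 2, 4, 6, 14, 10, 8, 6, 4, 2] .nil (.cons [6, 8, 4, 6, 14, 16, 8, 2, 4, 6, 14, 10, 8, 6, 4, 2] .nil (.cons [10, 8, 4, 6, 14, 16, 8, 2, 4, 6, 14, 10, 8, 6, 4, 2] (.cons [14, 6, 16, 4, 6, 14, 8, 2, 0, 4, 2, 8, 14] (.cons [2, 8, 6, 14, 0, 2, 6] (.cons [3, 1, 1] .nil .nil) .nil) .nil) (.cons [12, 10, 8, 6, 14, 16, 8, 2, 4, 6, 14, 10, 8, 6, 4, 2] .nil (.cons [14, 6, 8, 4, 6, 14, 16, 2, 4, 6, 14, 10, 8, 6, 4, 2] (.cons [2, 0, 6, 16, 6, 4, 2, 8, 14] (.cons [0, 10, 2, 8, 0, 2] (.cons [3, 0] (.cons [3, 5]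 (.cons [0] (.leaf 54) .nil) .nil) .nil) .nil) .nil) (.cons [2, 4, 6, 14, 16, 14, 6, 8, 4, 6, 14, 10, 8, 6, 4, 2] .nil (.cons [8, 2, 4, 6, 14, 16, 6, 8, 4, 6, 14, 10, 8, 6, 4, 2] (.cons [2, 0, 6, 4, 12, 6, 16, 6, 4, 2, 8, 14] .nil .nil) (.cons [6, 8, 4, 6, 14, 16, 6, 8, 4, 6, 14, 10, 8, 6, 4, 2] .nil (.cons [8, 0, 2, 4, 6, 14, 16, 8, 4, 6, 14, 10, 8, 6, 4, 2] .nil (.cons [8, 4, 6, 14, 16, 10, 8, 6, 14, 12, 10, 8, 6, 2, 4, 0, 2] .nil (.cons [4, 6, 14, 8, 10, 6, 8, 4, 6, 14, 12, 10, 8, 6, 4, 0, 2] .nil (.cons [4, 6, 14, 16, 10, 6, 8, 4, 6, 14, 12, 10, 8, 6, 4, 0, 2] .nil (.cons [4, 6, 14, 16, 14, 6, 8, 4, 6, 14, 12, 10, 8, 6, 4, 0, 2] .nil (.cons [8, 4, 6, 14, 16, 6, 8, 4, 6, 14, 12, 10, 8, 6, 4, 0, 2] .nil (.cons [8, 4, 6, 14, 16, 14, 6, 8, 4,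 6, 14, 10, 8, 6, 4, 0, 2] .nil (.cons [10, 8, 6, 14, 16, 14, 6, 8, 4, 6, 14, 10, 8, 6, 4, 0, 2] .nil (.cons [12, 10, 8, 4, 6, 14, 16, 8, 4, 6, 14, 10, 8, 6, 4, 0, 2] .nil (.cons [6, 14, 16, 10, 4, 6, 8, 2, 4, 6, 14, 12, 10, 8, 6, 4, 2] .nil (.cons [14, 16, 6, 14, 4, 6, 8, 2, 4, 6, 14, 12, 10, 8, 6, 4, 2] .nil (.cons [6, 14, 16, 14, 4, 6, 8, 2, 4, 6, 14, 12, 10, 8, 6, 4, 2] .nil (.cons [4, 6, 14, 16, 4, 6, 8, 2, 4, 6, 14, 12, 10, 8, 6, 4, 2] .nil (.cons [16, 6, 14, 8, 10, 6, 8, 2, 4, 6, 14, 12, 10, 8, 6, 4, 2] .nil (.cons [8, 6, 14, 16, 14, 6, 8, 2, 4, 6, 14, 12, 10, 8, 6, 4, 2] .nil (.cons [8, 4, 6, 14, 16, 6, 8, 2, 4, 6, 14, 12, 10, 8, 6, 4, 2] .nil (.cons [2, 4, 6, 14, 16, 10, 8, 2, 4, 6, 14, 12, 10, 8, 6, 4, 2] .nil (.cons [8, 4, 6, 14, 16,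 10, 8, 2, 4, 6, 14, 12, 10, 8, 6, 4, 2] .nil (.cons [10, 8, 6, 14, 16, 10, 8, 2, 4, 6, 14, 12, 10, 8, 6, 4, 2] .nil (.cons [6, 8, 4, 6, 14, 16, 8, 2, 4, 6, 14, 12, 10, 8, 6, 4, 2] .nil (.cons [10, 8, 4, 6, 14, 16, 8, 2, 4, 6, 14, 12, 10, 8, 6, 4, 2] .nil (.cons [12, 10, 8, 6, 14, 16, 8, 2, 4, 6, 14, 12, 10, 8, 6, 4, 2] .nil (.cons [10, 6, 8, 4, 6, 14, 16, 2, 4, 6, 14, 12, 10, 8, 6, 4, 2] .nil (.cons [14, 6, 8, 4, 6, 14, 16, 2, 4, 6, 14, 12, 10, 8, 6, 4, 2] .nil (.cons [12, 10, 8, 4, 6, 14, 16, 2, 4, 6, 14, 12, 10, 8, 6, 4, 2] .nil (.cons [14, 16, 6, 14, 8, 10, 6, 8, 4, 6, 14, 12, 10, 8, 6, 4, 2] .nil (.cons [8, 6, 14, 16, 8, 10, 6, 8, 4, 6, 14, 12, 10, 8, 6, 4, 2] .nil (.cons [2, 4, 6, 14, 16, 14, 6, 8, 4, 6, 14, 12, 10, 8, 6, 4, 2] .nil (.cons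 [10, 8, 6, 14, 16, 14, 6, 8, 4, 6, 14, 12, 10, 8, 6, 4, 2] .nil (.cons [8, 2, 4, 6, 14, 16, 6, 8, 4, 6, 14, 12, 10, 8, 6, 4, 2] .nil (.cons [10, 8, 4, 6, 14, 16, 6, 8, 4, 6, 14, 12, 10, 8, 6, 4, 2] (.cons [12, 2, 4, 6, 0, 8, 14, 16, 6, 4, 2, 8, 14] .nil .nil) (.cons [12, 10, 8, 6, 14, 16, 6, 8, 4, 6, 14, 12, 10, 8, 6, 4, 2] (.cons [14, 6, 4, 2, 8, 12, 6, 16, 14] (.cons [8, 2] (.cons [1, 3, 0, 3, 0] .nil .nil) .nil) .nil) (.cons [6, 8, 4, 6, 14, 16, 10, 8, 4, 6, 14, 12, 10, 8, 6, 4, 2] .nil (.cons [10, 8, 4, 6, 14, 16, 10, 8, 4, 6, 14, 12, 10, 8, 6, 4, 2] .nil (.cons [12, 10, 8, 6, 14, 16, 10, 8, 4, 6, 14, 12, 10, 8, 6, 4, 2] .nil (.cons [10, 8, 2, 4, 6, 14, 16, 8, 4, 6, 14, 12, 10, 8, 6, 4, 2] (.cons [14, 2, 4, 12, 6, 16, 2, 0, 4, 2, 8, 14] .nil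 .nil) (.cons [8, 4, 6, 14, 16, 4, 6, 8, 2, 4, 6, 14, 10, 8, 6, 4, 2] .nil (.cons [10, 8, 6, 14, 16, 4, 6, 8, 2, 4, 6, 14, 10, 8, 6, 4, 2] .nil (.cons [8, 4, 6, 14, 16, 14, 6, 8, 2, 4, 6, 14, 10, 8, 6, 4, 2] .nil (.cons [8, 2, 4, 6, 14, 16, 6, 8, 2, 4, 6, 14, 10, 8, 6, 4, 2] .nil (.cons [10, 8, 4, 6, 14, 16, 6, 8, 2, 4, 6, 14, 10, 8, 6, 4, 2] .nil (.cons [8, 0, 2, 4, 6, 14, 16, 8, 2, 4, 6, 14, 10, 8, 6, 4, 2] (.cons [8, 14, 6, 4, 2, 8, 6, 16, 14] .nil .nil) (.cons [10, 8, 2, 4, 6, 14, 16, 8, 2, 4, 6, 14, 10, 8, 6, 4, 2] .nil (.cons [10, 6, 8, 4, 6, 14, 16, 8, 2, 4, 6, 14, 10, 8, 6, 4, 2] .nil (.cons [14, 6, 8, 4, 6, 14, 16, 8, 2, 4, 6, 14, 10, 8, 6, 4, 2] .nil (.cons [12, 10, 8, 4, 6, 14, 16, 8, 2, 4, 6, 14, 10, 8, 6, 4, 2] .nil (.cons [6, 8,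 2, 4, 6, 14, 16, 6, 8, 4, 6, 14, 10, 8, 6, 4, 2] .nil (.cons [10, 8, 2, 4, 6, 14, 16, 6, 8, 4, 6, 14, 10, 8, 6, 4, 2] .nil (.cons [10, 8, 6, 14, 16, 14, 6, 8, 4, 6, 14, 12, 10, 8, 6, 4, 0, 2] .nil (.cons [6, 8, 4, 6, 14, 16, 6, 8, 4, 6, 14, 12, 10, 8, 6, 4, 0, 2] .nil (.cons [10, 8, 4, 6, 14, 16, 6, 8, 4, 6, 14, 12, 10, 8, 6, 4, 0, 2] .nil (.cons [12, 10, 8, 6, 14, 16, 6, 8, 4, 6, 14, 12, 10, 8, 6, 4, 0, 2] .nil (.cons [6, 8, 4, 6, 14, 16, 10, 8, 4, 6, 14, 12, 10, 8, 6, 4, 0, 2] .nil (.cons [12, 10, 8, 6, 14, 16, 10, 8, 4, 6, 14, 12, 10, 8, 6, 4, 0, 2] .nil (.cons [8, 0, 2, 4, 6, 14, 16, 8, 4, 6, 14, 12, 10, 8, 6, 4, 0, 2] (.cons [0, 6, 4, 2, 8, 0, 2, 6, 4, 12, 6, 16, 14] (.cons [6, 12, 6, 4] (.cons [0, 2, 0, 0, 2, 0] .nil .nil) .nil) .nil) (.cons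 [6, 8, 2, 4, 6, 14, 16, 10, 8, 6, 14, 12, 10, 8, 6, 4, 0, 2] .nil (.cons [14, 6, 8, 4, 6, 14, 16, 10, 8, 6, 14, 12, 10, 8, 6, 4, 0, 2] (.cons [12, 6, 2, 0, 8, 14, 16, 6, 4, 2, 8, 14] (.cons [12, 10, 8, 0, 2] (.cons [1, 1, 1, 1, 3] .nil .nil) .nil) .nil) (.cons [8, 2, 4, 6, 14, 16, 14, 6, 8, 4, 6, 14, 10, 8, 6, 4, 0, 2] .nil (.cons [12, 10, 8, 6, 14, 16, 14, 6, 8, 4, 6, 14, 10, 8, 6, 4, 0, 2] .nil (.cons [14, 16, 6, 8, 10, 4, 6, 8, 2, 4, 6, 14, 12, 10, 8, 6, 4, 2] (.cons [4, 2, 8, 2, 4, 12, 6, 16, 14] (.cons [6, 14, 4, 2, 8, 10] .nil .nil) .nil) (.cons [14, 16, 14, 8, 10, 4, 6, 8, 2, 4, 6, 14, 12, 10, 8, 6, 4, 2] .nil (.cons [8, 6, 14, 16, 14, 4, 6, 8, 2, 4, 6, 14, 12, 10, 8, 6, 4, 2] (.cons [8, 14, 4, 6, 16, 0, 4, 2, 8, 14] .nil .nil) (.cons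 [10, 8, 6, 14, 16, 4, 6, 8, 2, 4, 6, 14, 12, 10, 8, 6, 4, 2] .nil (.cons [6, 14, 16, 14, 8, 10, 6, 8, 2, 4, 6, 14, 12, 10, 8, 6, 4, 2] .nil (.cons [8, 6, 14, 16, 8, 10, 6, 8, 2, 4, 6, 14, 12, 10, 8, 6, 4, 2] .nil (.cons [4, 6, 14, 16, 14, 10, 6, 8, 2, 4, 6, 14, 12, 10, 8, 6, 4, 2] .nil (.cons [2, 4, 6, 14, 16, 14, 6, 8, 2, 4, 6, 14, 12, 10, 8, 6, 4, 2] .nil (.cons [8, 4, 6, 14, 16, 14, 6, 8, 2, 4, 6, 14, 12, 10, 8, 6, 4, 2] .nil (.cons [10, 8, 6, 14, 16, 14, 6, 8, 2, 4, 6, 14, 12, 10, 8, 6, 4, 2] .nil (.cons [10, 8, 4, 6, 14, 16, 6, 8, 2, 4, 6, 14, 12, 10, 8, 6, 4, 2] (.cons [2, 0, 6, 16, 6, 4, 2, 8, 14] (.cons [6, 12, 4, 10] (.cons [0, 3, 1, 1, 1, 1] .nil .nil) .nil) .nil) (.cons [8, 2, 4, 6, 14, 16, 10, 8, 2, 4, 6, 14, 12, 10, 8, 6, 4, 2] .nil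 (.cons [6, 8, 4, 6, 14, 16, 10, 8, 2, 4, 6, 14, 12, 10, 8, 6, 4, 2] .nil (.cons [10, 8, 4, 6, 14, 16, 10, 8, 2, 4, 6, 14, 12, 10, 8, 6, 4, 2] .nil (.cons [12, 10, 8, 4, 6, 14, 16, 8, 2, 4, 6, 14, 12, 10, 8, 6, 4, 2] .nil (.cons [12, 10, 6, 8, 4, 6, 14, 16, 2, 4, 6, 14, 12, 10, 8, 6, 4, 2] .nil (.cons [14, 10, 6, 8, 4, 6, 14, 16, 2, 4, 6, 14, 12, 10, 8, 6, 4, 2] .nil (.cons [14, 16, 4, 6, 14, 8, 10, 6, 8, 4, 6, 14, 12, 10, 8, 6, 4, 2] .nil (.cons [10, 8, 6, 14, 16, 8, 10, 6, 8, 4, 6, 14, 12, 10, 8, 6, 4, 2] .nil (.cons [2, 4, 6, 14, 16, 14, 10, 6, 8, 4, 6, 14, 12, 10, 8, 6, 4, 2] .nil (.cons [8, 4, 6, 14, 16, 14, 10, 6, 8, 4, 6, 14, 12, 10, 8, 6, 4, 2] (.cons [0, 8, 14, 6, 4, 12, 6, 16, 6, 4, 2, 8, 14] .nil .nil) (.cons [10, 8, 4, 6, 14, 16, 10,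 6, 8, 4, 6, 14, 12, 10, 8, 6, 4, 2] .nil (.cons [8, 2, 4, 6, 14, 16, 14, 6, 8, 4, 6, 14, 12, 10, 8, 6, 4, 2] (.cons [14, 6, 2, 0, 4, 2, 8, 6, 16, 14] (.cons [8, 6, 14, 4, 2, 10, 6] .nil .nil) .nil) (.cons [12, 10, 8, 6, 14, 16, 14, 6, 8, 4, 6, 14, 12, 10, 8, 6, 4, 2] .nil (.cons [8, 0, 2, 4, 6, 14, 16, 6, 8, 4, 6, 14, 12, 10, 8, 6, 4, 2] .nil (.cons [6, 8, 2, 4, 6, 14, 16, 6, 8, 4, 6, 14, 12, 10, 8, 6, 4, 2] .nil (.cons [6, 8, 2, 4, 6, 14, 16, 10, 8, 4, 6, 14, 12, 10, 8, 6, 4, 2] (.cons [14, 12, 6, 16, 4, 2, 8, 14] (.cons [2, 8, 12, 6, 14, 12] (.cons [1, 1, 2, 1, 1, 3, 1, 1] (.cons [2, 1, 5] (.cons [2] (.leaf 56) .nil) .nil) .nil) .nil) .nil) (.cons [10, 8, 0, 2, 4, 6, 14, 16, 8, 4, 6, 14, 12, 10, 8, 6, 4, 2] (.cons [14, 6, 4, 0, 2, 8, 6, 4,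 12, 6, 16, 14] (.cons [8, 12, 6, 14, 2, 10, 6] (.cons [0, 0, 3, 0, 2, 0] (.cons [1, 5] (.cons [2, 0] (.leaf 58) .nil) .nil) .nil) .nil) .nil) (.cons [12, 10, 8, 2, 4, 6, 14, 16, 8, 4, 6, 14, 12, 10, 8, 6, 4, 2] .nil (.cons [14, 6, 8, 2, 4, 6, 14, 16, 10, 8, 6, 14, 12, 10, 8, 6, 4, 2] .nil (.cons [4, 6, 14, 16, 6, 14, 4, 6, 8, 2, 4, 6, 14, 10, 8, 6, 4, 2] .nil (.cons [8, 2, 4, 6, 14, 16, 4, 6, 8, 2, 4, 6, 14, 10, 8, 6, 4, 2] .nil (.cons [10, 8, 4, 6, 14, 16, 4, 6, 8, 2, 4, 6, 14, 10, 8, 6, 4, 2] .nil (.cons [8, 2, 4, 6, 14, 16, 14, 6, 8, 2, 4, 6, 14, 10, 8, 6, 4, 2] .nil (.cons [8, 0, 2, 4, 6, 14, 16, 6, 8, 2, 4, 6, 14, 10, 8, 6, 4, 2] .nil (.cons [10, 8, 2, 4, 6, 14, 16, 6, 8, 2, 4, 6, 14, 10, 8, 6, 4, 2] .nil (.cons [10, 6, 8, 4, 6, 14, 16,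 6, 8, 2, 4, 6, 14, 10, 8, 6, 4, 2] .nil (.cons [10, 8, 0, 2, 4, 6, 14, 16, 8, 2, 4, 6, 14, 10, 8, 6, 4, 2] .nil (.cons [14, 6, 8, 2, 4, 6, 14, 16, 8, 2, 4, 6, 14, 10, 8, 6, 4, 2] .nil (.cons [12, 10, 6, 8, 4, 6, 14, 16, 8, 2, 4, 6, 14, 10, 8, 6, 4, 2] (.cons [14, 6, 16, 2, 4, 6, 14, 8, 2, 0, 4, 2, 8, 14] (.cons [10, 6, 4] .nil .nil) .nil) (.cons [6, 8, 2, 4, 6, 14, 16, 14, 6, 8, 4, 6, 14, 10, 8, 6, 4, 2] (.cons [8, 2, 14, 8, 4, 2, 6, 4, 12, 6, 16, 14] (.cons [14, 2, 8, 0, 2] .nil .nil) .nil) (.cons [4, 6, 8, 2, 4, 6, 14, 16, 6, 8, 4, 6, 14, 10, 8, 6, 4, 2] .nil (.cons [12, 10, 8, 2, 4, 6, 14, 16, 6, 8, 4, 6, 14, 10, 8, 6, 4, 2] .nil (.cons [6, 8, 2, 4, 6, 14, 16, 10, 8, 6, 14, 12, 10, 8, 6, 2, 4, 0, 2] .nil (.cons [8, 4, 6, 14, 16, 14, 10, 6,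 8, 4, 6, 14, 12, 10, 8, 6, 4, 0, 2] .nil (.cons [0, 2, 4, 6, 14, 16, 10, 6, 8, 4, 6, 14, 12, 10, 8, 6, 4, 0, 2] .nil (.cons [6, 14, 16, 6, 14, 10, 4, 6, 8, 2, 4, 6, 14, 12, 10, 8, 6, 4, 2] .nil (.cons [8, 6, 14, 16, 14, 10, 4, 6, 8, 2, 4, 6, 14, 12, 10, 8, 6, 4, 2] .nil (.cons [2, 4, 6, 14, 16, 10, 4, 6, 8, 2, 4, 6, 14, 12, 10, 8, 6, 4, 2] .nil (.cons [8, 4, 6, 14, 16, 10, 4, 6, 8, 2, 4, 6, 14, 12, 10, 8, 6, 4, 2] .nil (.cons [10, 8, 6, 14, 16, 10, 4, 6, 8, 2, 4, 6, 14, 12, 10, 8, 6, 4, 2] .nil (.cons [8, 4, 6, 14, 16, 14, 4, 6, 8, 2, 4, 6, 14, 12, 10, 8, 6, 4, 2] (.cons [14, 12, 6, 4, 0, 2, 8, 4, 6, 16, 14] (.cons [6, 14, 4, 2, 10, 4, 6] .nil .nil) .nil) (.cons [8, 2, 4, 6, 14, 16, 4, 6, 8, 2, 4, 6, 14, 12, 10, 8, 6, 4, 2] (.cons [4, 8, 14,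 2, 8, 4, 12, 6, 16, 14] .nil .nil) (.cons [10, 8, 4, 6, 14, 16, 4, 6, 8, 2, 4, 6, 14, 12, 10, 8, 6, 4, 2] .nil (.cons [10, 8, 6, 14, 16, 8, 10, 6, 8, 2, 4, 6, 14, 12, 10, 8, 6, 4, 2] .nil (.cons [8, 2, 4, 6, 14, 16, 14, 6, 8, 2, 4, 6, 14, 12, 10, 8, 6, 4, 2] .nil (.cons [12, 10, 8, 6, 14, 16, 14, 6, 8, 2, 4, 6, 14, 12, 10, 8, 6, 4, 2] .nil (.cons [8, 0, 2, 4, 6, 14, 16, 6, 8, 2, 4, 6, 14, 12, 10, 8, 6, 4, 2] .nil (.cons [10, 8, 2, 4, 6, 14, 16, 6, 8, 2, 4, 6, 14, 12, 10, 8, 6, 4, 2] .nil (.cons [14, 6, 8, 4, 6, 14, 16, 6, 8, 2, 4, 6, 14, 12, 10, 8, 6, 4, 2] .nil (.cons [12, 10, 8, 4, 6, 14, 16, 6, 8, 2, 4, 6, 14, 12, 10, 8, 6, 4, 2] .nil (.cons [8, 0, 2, 4, 6, 14, 16, 10, 8, 2, 4, 6, 14, 12, 10, 8, 6, 4, 2] .nil (.cons [10, 6, 8, 4, 6, 14, 16,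 10, 8, 2, 4, 6, 14, 12, 10, 8, 6, 4, 2] .nil (.cons [14, 6, 8, 2, 4, 6, 14, 16, 8, 2, 4, 6, 14, 12, 10, 8, 6, 4, 2] .nil (.cons [14, 8, 10, 6, 8, 4, 6, 14, 16, 2, 4, 6, 14, 12, 10, 8, 6, 4, 2] .nil (.cons [8, 0, 2, 4, 6, 14, 16, 10, 6, 8, 4, 6, 14, 12, 10, 8, 6, 4, 2] (.cons [4, 0, 2, 14, 8, 2, 4, 12, 6, 16, 14] (.cons [6, 2, 12, 6, 14] (.cons [1, 3, 0, 0, 3] (.cons [0] (.cons [2] (.leaf 60) .nil) .nil) .nil) .nil) .nil) (.cons [6, 8, 2, 4, 6, 14, 16, 10, 6, 8, 4, 6, 14, 12, 10, 8, 6, 4, 2] .nil (.cons [6, 8, 2, 4, 6, 14, 16, 14, 6, 8, 4, 6, 14, 12, 10, 8, 6, 4, 2] (.cons [0, 8, 14, 6, 4, 12, 6, 16, 6, 4, 2, 8, 14] (.cons [2, 8, 10, 4, 2, 6, 14] (.cons [1, 1, 1, 1, 1, 2] .nil .nil) .nil) .nil) (.cons [10, 8, 2, 4, 6, 14, 16, 14, 6, 8, 4, 6, 14,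 12, 10, 8, 6, 4, 2] .nil (.cons [12, 10, 8, 4, 6, 14, 16, 14, 6, 8, 4, 6, 14, 12, 10, 8, 6, 4, 2] .nil (.cons [6, 8, 0, 2, 4, 6, 14, 16, 6, 8, 4, 6, 14, 12, 10, 8, 6, 4, 2] .nil (.cons [4, 6, 8, 2, 4, 6, 14, 16, 6, 8, 4, 6, 14, 12, 10, 8, 6, 4, 2] .nil (.cons [10, 8, 0, 2, 4, 6, 14, 16, 10, 8, 4, 6, 14, 12, 10, 8, 6, 4, 2] (.cons [8, 14, 4, 2, 8, 6, 16, 14] (.cons [0, 2, 8, 2] (.cons [0, 2, 1, 1, 3, 0, 2] (.cons [0, 5, 1] (.cons [2, 0] (.leaf 62) .nil) .nil) .nil) .nil) .nil) (.cons [12, 10, 8, 2, 4, 6, 14, 16, 10, 8, 4, 6, 14, 12, 10, 8, 6, 4, 2] .nil (.cons [12, 10, 8, 0, 2, 4, 6, 14, 16, 8, 4, 6, 14, 12, 10, 8, 6, 4, 2] .nil (.cons [14, 4, 6, 8, 2, 4, 6, 14, 16, 10, 8, 6, 14, 12, 10, 8, 6, 4, 2] .nil (.cons [8, 2, 4, 6, 14, 16, 14, 4, 6, 8,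 2, 4, 6, 14, 10, 8, 6, 4, 2] .nil (.cons [6, 8, 4, 6, 14, 16, 14, 4, 6, 8, 2, 4, 6, 14, 10, 8, 6, 4, 2] (.cons [14, 0, 12, 6, 2, 0, 4, 2, 8, 6, 16, 14] (.cons [10, 2, 8, 0, 2, 6] (.cons [0, 2, 1, 1, 3] .nil .nil) .nil) .nil) (.cons [8, 0, 2, 4, 6, 14, 16, 14, 6, 8, 2, 4, 6, 14, 10, 8, 6, 4, 2] (.cons [0, 8, 14, 16, 6, 4, 2, 8, 14] (.cons [14, 2, 8, 0, 4, 2, 6] .nil .nil) .nil) (.cons [6, 8, 2, 4, 6, 14, 16, 14, 6, 8, 2, 4, 6, 14, 10, 8, 6, 4, 2] (.cons [12, 6, 0, 12, 8, 14, 16, 6, 4, 2, 8, 14] (.cons [14, 4, 2, 8, 0, 2, 6] (.cons [0, 0, 2, 1, 1, 3, 1] .nil .nil) .nil) .nil) (.cons [10, 8, 2, 4, 6, 14, 16, 14, 6, 8, 2, 4, 6, 14, 10, 8, 6, 4, 2] (.cons [0, 4, 2, 8, 0, 2, 4, 12, 6, 16, 14] (.cons [12, 4, 10] .nil .nil) .nil) (.cons [14, 6, 8, 4,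 6, 14, 16, 14, 6, 8, 2, 4, 6, 14, 10, 8, 6, 4, 2] .nil (.cons [10, 8, 0, 2, 4, 6, 14, 16, 6, 8, 2, 4, 6, 14, 10, 8, 6, 4, 2] .nil (.cons [12, 10, 8, 2, 4, 6, 14, 16, 6, 8, 2, 4, 6, 14, 10, 8, 6, 4, 2] .nil (.cons [10, 6, 8, 0, 2, 4, 6, 14, 16, 8, 2, 4, 6, 14, 10, 8, 6, 4, 2] .nil (.cons [12, 10, 8, 0, 2, 4, 6, 14, 16, 8, 2, 4, 6, 14, 10, 8, 6, 4, 2] .nil (.cons [8, 2, 4, 6, 14, 16, 8, 10, 6, 8, 4, 6, 14, 12, 10, 8, 6, 4, 0, 2] .nil (.cons [0, 2, 4, 6, 14, 16, 14, 10, 6, 8, 4, 6, 14, 12, 10, 8, 6, 4, 0, 2] (.cons [0, 2, 4, 6, 14, 16, 6, 4, 2, 8, 14] .nil .nil) (.cons [8, 10, 6, 8, 4, 6, 14, 16, 6, 8, 4, 6, 14, 12, 10, 8, 6, 4, 0, 2] .nil (.cons [6, 8, 0, 2, 4, 6, 14, 16, 10, 8, 4, 6, 14, 12, 10, 8, 6, 4, 0, 2] (.cons [0, 12, 6, 2, 0, 4, 2, 8,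 6, 16, 14] .nil .nil) (.cons [12, 10, 6, 8, 4, 6, 14, 16, 10, 8, 4, 6, 14, 12, 10, 8, 6, 4, 0, 2] .nil (.cons [14, 10, 6, 8, 4, 6, 14, 16, 10, 8, 4, 6, 14, 12, 10, 8, 6, 4, 0, 2] (.cons [14, 2, 4, 0, 2, 8, 4, 12, 6, 16, 14] .nil .nil) (.cons [12, 10, 8, 0, 2, 4, 6, 14, 16, 8, 4, 6, 14, 12, 10, 8, 6, 4, 0, 2] .nil (.cons [4, 6, 14, 16, 6, 14, 10, 4, 6, 8, 2, 4, 6, 14, 12, 10, 8, 6, 4, 2] (.cons [4, 12, 6, 16, 4, 2, 8, 14] .nil .nil) (.cons [6, 8, 4, 6, 14, 16, 14, 4, 6, 8, 2, 4, 6, 14, 12, 10, 8, 6, 4, 2] .nil (.cons [10, 8, 4, 6, 14, 16, 14, 4, 6, 8, 2, 4, 6, 14, 12, 10, 8, 6, 4, 2] (.cons [4, 12, 6, 16, 6, 4, 2, 8, 14] (.cons [10, 0, 2, 4, 6, 14, 12] (.cons [3, 0, 2, 1, 1] .nil .nil) .nil) .nil) (.cons [14, 6, 8, 4, 6, 14, 16, 4, 6, 8, 2, 4,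 6, 14, 12, 10, 8, 6, 4, 2] (.cons [0, 12, 6, 16, 6, 4, 2, 8, 14] .nil .nil) (.cons [10, 8, 4, 6, 14, 16, 8, 10, 6, 8, 2, 4, 6, 14, 12, 10, 8, 6, 4, 2] .nil (.cons [12, 10, 8, 6, 14, 16, 8, 10, 6, 8, 2, 4, 6, 14, 12, 10, 8, 6, 4, 2] .nil (.cons [12, 10, 8, 6, 14, 16, 14, 10, 6, 8, 2, 4, 6, 14, 12, 10, 8, 6, 4, 2] .nil (.cons [8, 0, 2, 4, 6, 14, 16, 14, 6, 8, 2, 4, 6, 14, 12, 10, 8, 6, 4, 2] (.cons [14, 4, 2, 8, 0, 2, 6, 4, 12, 6, 16, 14] .nil .nil) (.cons [10, 8, 0, 2, 4, 6, 14, 16, 6, 8, 2, 4, 6, 14, 12, 10, 8, 6, 4, 2] (.cons [4, 2, 8, 0, 4, 2, 6, 4, 12, 6, 16, 14] .nil .nil) (.cons [10, 6, 8, 2, 4, 6, 14, 16, 6, 8, 2, 4, 6, 14, 12, 10, 8, 6, 4, 2] (.cons [14, 6, 4, 2, 8, 4, 12, 6, 16, 14] (.cons [12, 6, 14, 2, 6] (.cons [0, 3, 1] .nil .nil)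 .nil) .nil) (.cons [14, 6, 8, 2, 4, 6, 14, 16, 6, 8, 2, 4, 6, 14, 12, 10, 8, 6, 4, 2] .nil (.cons [12, 10, 8, 2, 4, 6, 14, 16, 6, 8, 2, 4, 6, 14, 12, 10, 8, 6, 4, 2] .nil (.cons [14, 10, 6, 8, 4, 6, 14, 16, 6, 8, 2, 4, 6, 14, 12, 10, 8, 6, 4, 2] (.cons [14, 2, 8, 6, 16, 14] (.cons [4, 8, 2, 4, 6, 14, 12] (.cons [3, 0, 2, 0, 0, 2, 1] (.cons [3, 1] (.cons [] (.leaf 64) .nil) .nil) .nil) .nil) .nil) (.cons [6, 8, 0, 2, 4, 6, 14, 16, 10, 8, 2, 4, 6, 14, 12, 10, 8, 6, 4, 2] .nil (.cons [14, 6, 8, 0, 2, 4, 6, 14, 16, 8, 2, 4, 6, 14, 12, 10, 8, 6, 4, 2] .nil (.cons [12, 10, 6, 8, 2, 4, 6, 14, 16, 8, 2, 4, 6, 14, 12, 10, 8, 6, 4, 2] .nil (.cons [14, 10, 6, 8, 2, 4, 6, 14, 16, 8, 2, 4, 6, 14, 12, 10, 8, 6, 4, 2] .nil (.cons [14, 8, 10, 6, 8, 4, 6, 14,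 16, 8, 2, 4, 6, 14, 12, 10, 8, 6, 4, 2] .nil (.cons [6, 14, 8, 10, 6, 8, 4, 6, 14, 16, 2, 4, 6, 14, 12, 10, 8, 6, 4, 2] .nil (.cons [8, 2, 4, 6, 14, 16, 14, 8, 10, 6, 8, 4, 6, 14, 12, 10, 8, 6, 4, 2] .nil (.cons [10, 8, 2, 4, 6, 14, 16, 14, 10, 6, 8, 4, 6, 14, 12, 10, 8, 6, 4, 2] .nil (.cons [14, 6, 8, 4, 6, 14, 16, 14, 10, 6, 8, 4, 6, 14, 12, 10, 8, 6, 4, 2] .nil (.cons [10, 8, 0, 2, 4, 6, 14, 16, 14, 6, 8, 4, 6, 14, 12, 10, 8, 6, 4, 2] (.cons [8, 14, 6, 16, 0, 4, 2, 8, 14] (.cons [6, 8, 12, 10, 6, 4] (.cons [2, 0, 0, 0, 2] .nil .nil) .nil) .nil) (.cons [12, 10, 8, 2, 4, 6, 14, 16, 14, 6, 8, 4, 6, 14, 12, 10, 8, 6, 4, 2] .nil (.cons [4, 6, 8, 0, 2, 4, 6, 14, 16, 6, 8, 4, 6, 14, 12, 10, 8, 6, 4, 2] .nil (.cons [10, 4, 6, 8, 2, 4, 6, 14, 16, 6,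 8, 4, 6, 14, 12, 10, 8, 6, 4, 2] .nil (.cons [8, 10, 6, 8, 2, 4, 6, 14, 16, 6, 8, 4, 6, 14, 12, 10, 8, 6, 4, 2] .nil (.cons [12, 10, 8, 0, 2, 4, 6, 14, 16, 10, 8, 4, 6, 14, 12, 10, 8, 6, 4, 2] .nil (.cons [16, 14, 10, 6, 8, 4, 6, 14, 16, 10, 8, 4, 6, 14, 12, 10, 8, 6, 4, 2] .nil (.cons [12, 10, 8, 6, 14, 16, 14, 8, 10, 6, 8, 4, 6, 14, 12, 10, 8, 6, 4, 0, 2] .nil (.cons [10, 8, 6, 14, 16, 14, 8, 10, 4, 6, 8, 2, 4, 6, 14, 12, 10, 8, 6, 4, 2] .nil (.cons [10, 8, 4, 6, 14, 16, 8, 10, 4, 6, 8, 2, 4, 6, 14, 12, 10, 8, 6, 4, 2] .nil (.cons [8, 0, 2, 4, 6, 14, 16, 10, 4, 6, 8, 2, 4, 6, 14, 12, 10, 8, 6, 4, 2] .nil (.cons [6, 8, 2, 4, 6, 14, 16, 10, 4, 6, 8, 2, 4, 6, 14, 12, 10, 8, 6, 4, 2] .nil (.cons [14, 6, 8, 4, 6, 14, 16, 10, 4, 6, 8, 2, 4, 6, 14,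 12, 10, 8, 6, 4, 2] .nil (.cons [8, 0, 2, 4, 6, 14, 16, 14, 4, 6, 8, 2, 4, 6, 14, 12, 10, 8, 6, 4, 2] .nil (.cons [10, 8, 2, 4, 6, 14, 16, 14, 4, 6, 8, 2, 4, 6, 14, 12, 10, 8, 6, 4, 2] .nil (.cons [10, 6, 8, 4, 6, 14, 16, 14, 4, 6, 8, 2, 4, 6, 14, 12, 10, 8, 6, 4, 2] (.cons [2, 4, 12, 6, 16, 6, 4, 2, 8, 14] .nil .nil) (.cons [12, 10, 8, 2, 4, 6, 14, 16, 4, 6, 8, 2, 4, 6, 14, 12, 10, 8, 6, 4, 2] .nil (.cons [10, 8, 6, 14, 16, 6, 14, 8, 10, 6, 8, 2, 4, 6, 14, 12, 10, 8, 6, 4, 2] .nil (.cons [12, 10, 8, 4, 6, 14, 16, 8, 10, 6, 8, 2, 4, 6, 14, 12, 10, 8, 6, 4, 2] .nil (.cons [10, 8, 2, 4, 6, 14, 16, 14, 10, 6, 8, 2, 4, 6, 14, 12, 10, 8, 6, 4, 2] .nil (.cons [12, 10, 8, 4, 6, 14, 16, 14, 10, 6, 8, 2, 4, 6, 14, 12, 10, 8, 6, 4, 2] .nil (.cons [4, 6,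 8, 2, 4, 6, 14, 16, 10, 6, 8, 2, 4, 6, 14, 12, 10, 8, 6, 4, 2] .nil (.cons [8, 10, 6, 8, 4, 6, 14, 16, 10, 6, 8, 2, 4, 6, 14, 12, 10, 8, 6, 4, 2] .nil (.cons [10, 8, 0, 2, 4, 6, 14, 16, 14, 6, 8, 2, 4, 6, 14, 12, 10, 8, 6, 4, 2] (.cons [14, 0, 2, 8, 4, 2, 6, 4, 12, 6, 16, 14] (.cons [14, 2, 8, 10] (.cons [2, 1, 1, 2, 1] (.cons [4] (.cons [2] (.leaf 66) .nil) .nil) .nil) .nil) .nil) (.cons [4, 6, 8, 2, 4, 6, 14, 16, 14, 6, 8, 2, 4, 6, 14, 12, 10, 8, 6, 4, 2] .nil (.cons [12, 10, 8, 2, 4, 6, 14, 16, 14, 6, 8, 2, 4, 6, 14, 12, 10, 8, 6, 4, 2] .nil (.cons [16, 14, 6, 8, 4, 6, 14, 16, 14, 6, 8, 2, 4, 6, 14, 12, 10, 8, 6, 4, 2] .nil (.cons [10, 4, 6, 8, 2, 4, 6, 14, 16, 6, 8, 2, 4, 6, 14, 12, 10, 8, 6, 4, 2] .nil (.cons [8, 10, 6, 8, 2, 4, 6, 14, 16,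 6, 8, 2, 4, 6, 14, 12, 10, 8, 6, 4, 2] .nil (.cons [12, 10, 6, 8, 2, 4, 6, 14, 16, 6, 8, 2, 4, 6, 14, 12, 10, 8, 6, 4, 2] .nil (.cons [12, 8, 10, 6, 8, 4, 6, 14, 16, 6, 8, 2, 4, 6, 14, 12, 10, 8, 6, 4, 2] .nil (.cons [14, 8, 10, 6, 8, 4, 6, 14, 16, 10, 8, 2, 4, 6, 14, 12, 10, 8, 6, 4, 2] .nil (.cons [8, 10, 6, 8, 0, 2, 4, 6, 14, 16, 8, 2, 4, 6, 14, 12, 10, 8, 6, 4, 2] (.cons [4, 2, 8, 12, 6, 16, 14] .nil .nil) (.cons [12, 10, 8, 6, 14, 16, 6, 14, 8, 10, 6, 8, 4, 6, 14, 12, 10, 8, 6, 4, 2] (.cons [12, 4, 2, 0, 8, 14, 16, 6, 4, 2, 8, 14] (.cons [4, 2, 8, 2] .nil .nil) .nil) (.cons [14, 4, 6, 8, 2, 4, 6, 14, 16, 10, 6, 8, 4, 6, 14, 12, 10, 8, 6, 4, 2] .nil (.cons [4, 6, 8, 2, 4, 6, 14, 16, 14, 4, 6, 8, 2, 4, 6, 14, 10, 8, 6, 4, 2] .nil (.cons [8,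 10, 6, 8, 2, 4, 6, 14, 16, 4, 6, 8, 2, 4, 6, 14, 10, 8, 6, 4, 2] (.cons [8, 14, 6, 4, 2, 8, 12, 6, 16, 14] (.cons [8, 4, 6, 14, 4, 2, 6] (.cons [0, 0, 0, 2, 0, 0] .nil .nil) .nil) .nil) (.cons [12, 10, 8, 6, 14, 16, 6, 8, 10, 4, 6, 8, 2, 4, 6, 14, 12, 10, 8, 6, 4, 2] .nil (.cons [8, 10, 6, 8, 4, 6, 14, 16, 10, 4, 6, 8, 2, 4, 6, 14, 12, 10, 8, 6, 4, 2] .nil (.cons [14, 10, 6, 8, 2, 4, 6, 14, 16, 4, 6, 8, 2, 4, 6, 14, 12, 10, 8, 6, 4, 2] .nil (.cons [12, 8, 10, 6, 8, 4, 6, 14, 16, 4, 6, 8, 2, 4, 6, 14, 12, 10, 8, 6, 4, 2] .nil (.cons [14, 12, 10, 6, 8, 4, 6, 14, 16, 4, 6, 8, 2, 4, 6, 14, 12, 10, 8, 6, 4, 2] .nil (.cons [10, 8, 4, 6, 14, 16, 6, 14, 8, 10, 6, 8, 2, 4, 6, 14, 12, 10, 8, 6, 4, 2] .nil (.cons [4, 6, 8, 0, 2, 4, 6, 14, 16, 10, 6, 8,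 2, 4, 6, 14, 12, 10, 8, 6, 4, 2] (.cons [0, 2, 4, 6, 16, 6, 4, 2, 8, 14] (.cons [2, 12, 8, 4] .nil .nil) .nil) (.cons [12, 10, 8, 0, 2, 4, 6, 14, 16, 10, 6, 8, 2, 4, 6, 14, 12, 10, 8, 6, 4, 2] (.cons [6, 4, 2, 14, 8, 2, 4, 12, 6, 16, 14] (.cons [4, 2, 8, 6, 14, 0, 2, 6] (.cons [0, 0, 3, 1, 1, 3] .nil .nil) .nil) .nil) (.cons [10, 6, 8, 0, 2, 4, 6, 14, 16, 14, 6, 8, 2, 4, 6, 14, 12, 10, 8, 6, 4, 2] (.cons [14, 6, 4, 0, 2, 8, 6, 4, 12, 6, 16, 14] (.cons [8, 12, 6, 14, 2, 8, 10, 6] .nil .nil) .nil) (.cons [14, 10, 4, 6, 8, 2, 4, 6, 14, 16, 6, 8, 2, 4, 6, 14, 12, 10, 8, 6, 4, 2] (.cons [4, 8, 14, 2, 8, 4, 6, 16, 14] .nil .nil) (.cons [6, 14, 8, 10, 6, 8, 4, 6, 14, 16, 6, 8, 2, 4, 6, 14, 12, 10, 8, 6, 4, 2] .nil (.cons [6, 14, 8, 10, 6, 8, 2, 4, 6,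 14, 16, 8, 2, 4, 6, 14, 12, 10, 8, 6, 4, 2] .nil (.cons [10, 6, 8, 2, 4, 6, 14, 16, 14, 8, 10, 6, 8, 4, 6, 14, 12, 10, 8, 6, 4, 2] .nil (.cons [14, 12, 10, 6, 8, 4, 6, 14, 16, 8, 10, 6, 8, 4, 6, 14, 12, 10, 8, 6, 4, 2] .nil (.cons [12, 10, 4, 6, 8, 2, 4, 6, 14, 16, 10, 6, 8, 4, 6, 14, 12, 10, 8, 6, 4, 2] .nil (.cons [14, 12, 10, 6, 8, 2, 4, 6, 14, 16, 10, 6, 8, 4, 6, 14, 12, 10, 8, 6, 4, 2] .nil (.cons [6, 8, 2, 4, 6, 14, 16, 6, 8, 10, 4, 6, 8, 2, 4, 6, 14, 12, 10, 8, 6, 4, 2] .nil (.cons [12, 10, 8, 0, 2, 4, 6, 14, 16, 10, 4, 6, 8, 2, 4, 6, 14, 12, 10, 8, 6, 4, 2] .nil (.cons [8, 10, 6, 8, 2, 4, 6, 14, 16, 10, 4, 6, 8, 2, 4, 6, 14, 12, 10, 8, 6, 4, 2] .nil (.cons [12, 10, 6, 8, 2, 4, 6, 14, 16, 10, 4, 6, 8, 2, 4, 6, 14, 12, 10, 8, 6, 4, 2] (.cons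 [0, 2, 8, 2, 4, 12, 6, 16, 14] (.cons [4, 2, 8, 6, 14] (.cons [1, 1, 1, 2, 0, 0, 3] .nil .nil) .nil) .nil) (.cons [16, 14, 10, 6, 8, 2, 4, 6, 14, 16, 4, 6, 8, 2, 4, 6, 14, 12, 10, 8, 6, 4, 2] (.cons [2, 4, 6, 0, 14, 16, 6, 4, 2, 8, 14] .nil .nil) (.cons [14, 8, 10, 6, 8, 4, 6, 14, 16, 8, 10, 6, 8, 2, 4, 6, 14, 12, 10, 8, 6, 4, 2] .nil (.cons [12, 10, 4, 6, 8, 0, 2, 4, 6, 14, 16, 10, 8, 2, 4, 6, 14, 12, 10, 8, 6, 4, 2] .nil (.cons [12, 8, 10, 4, 6, 8, 2, 4, 6, 14, 16, 10, 8, 2, 4, 6, 14, 12, 10, 8, 6, 4, 2] .nil (.cons [10, 4, 6, 8, 2, 4, 6, 14, 16, 14, 8, 10, 6, 8, 4, 6, 14, 12, 10, 8, 6, 4, 2] .nil (.cons [14, 4, 6, 8, 0, 2, 4, 6, 14, 16, 10, 4, 6, 8, 2, 4, 6, 14, 12, 10, 8, 6, 4, 2] .nil (.cons [16, 14, 6, 8, 0, 2, 4, 6, 14, 16, 10, 4, 6, 8,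 2, 4, 6, 14, 12, 10, 8, 6, 4, 2] (.cons [8, 0, 2, 14, 8, 2, 4, 12, 6, 16, 14] (.cons [8, 4, 6, 14, 4, 2, 10, 6] (.cons [3, 0, 2, 1, 3] .nil .nil) .nil) .nil) (.cons [14, 8, 10, 6, 8, 2, 4, 6, 14, 16, 10, 4, 6, 8, 2, 4, 6, 14, 12, 10, 8, 6, 4, 2] .nil (.cons [8, 10, 6, 8, 4, 6, 14, 16, 6, 14, 8, 10, 6, 8, 2, 4, 6, 14, 12, 10, 8, 6, 4, 2] .nil (.cons [12, 10, 6, 8, 2, 4, 6, 14, 16, 14, 8, 10, 6, 8, 2, 4, 6, 14, 12, 10, 8, 6, 4, 2] .nil (.cons [4, 6, 14, 8, 10, 6, 8, 2, 4, 6, 14, 16, 6, 8, 2, 4, 6, 14, 12, 10, 8, 6, 4, 2] .nil (.cons [16, 14, 12, 8, 10, 6, 8, 2, 4, 6, 14, 16, 10, 8, 2, 4, 6, 14, 12, 10, 8, 6, 4, 2] .nil (.cons [14, 6, 8, 10, 4, 6, 8, 2, 4, 6, 14, 16, 10, 6, 8, 4, 6, 14, 12, 10, 8, 6, 4, 2] (.cons [2, 0, 6, 4, 12, 6, 16, 6, 4, 2,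 8, 14] (.cons [0, 6, 2, 4, 6, 14, 12] .nil .nil) .nil) (.cons [16, 14, 8, 10, 6, 8, 4, 6, 14, 16, 8, 10, 4, 6, 8, 2, 4, 6, 14, 12, 10, 8, 6, 4, 2] .nil (.cons [14, 8, 10, 6, 8, 0, 2, 4, 6, 14, 16, 10, 4, 6, 8, 2, 4, 6, 14, 12, 10, 8, 6, 4, 2] .nil (.cons [10, 12, 8, 10, 6, 8, 2, 4, 6, 14, 16, 10, 4, 6, 8, 2, 4, 6, 14, 12, 10, 8, 6, 4, 2] .nil (.cons [6, 14, 8, 10, 6, 8, 4, 6, 14, 16, 14, 8, 10, 6, 8, 2, 4, 6, 14, 12, 10, 8, 6, 4, 2] .nil (.cons [16, 14, 12, 8, 10, 6, 8, 2, 4, 6, 14, 16, 10, 6, 8, 2, 4, 6, 14, 12, 10, 8, 6, 4, 2] (.cons [0, 8, 2, 4, 6, 16, 6, 4, 2, 8, 14] .nil .nil) (.cons [4, 6, 14, 8, 10, 6, 8, 4, 6, 14, 16, 8, 10, 4, 6, 8, 2, 4, 6, 14, 12, 10, 8, 6, 4, 2] .nil (.cons [6, 14, 12, 10, 4, 6, 8, 2, 4, 6, 14, 16, 10, 4, 6, 8, 2,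 4, 6, 14, 12, 10, 8, 6, 4, 2] .nil (.cons [2, 4, 6, 14, 8, 10, 6, 8, 2, 4, 6, 14, 16, 8, 10, 4, 6, 8, 2, 4, 6, 14, 12, 10, 8, 6, 4, 2] (.cons [0, 8, 2, 4, 6, 16, 6, 4, 2, 8, 14] (.cons [2, 8, 10, 0, 2, 6, 14, 12] (.cons [0, 2, 0, 0, 3, 3] (.cons [1, 5, 3] (.cons [0] (.leaf 68) .nil) .nil) .nil) .nil) .nil) (.cons [6, 14, 16, 4, 6, 14, 8, 10, 6, 8, 2, 4, 6, 14, 16, 8, 10, 6, 8, 2, 4, 6, 14, 12, 10, 8, 6, 4, 2] .nil .nil))))))))))))))))))))))))))))))))))))))))))))))))))))))))))))))))))))))))))))))))))))))))))))))))))))))))))))))))))))))))))))))))))))))))))))))))))))))))))))))))))))))))))))))))))))))))))))))))))))))))))))))))))))))))))))))))))))))))))))))))))))))))))))))))))))))))))))))))))))))))))))))))))))))))))))))))))))))))))))))))))))))))))))))))))))))))))))))))))))))))))))))))))))))))))))))))))))))))))))))))))))))))))))))))))))))))))))))))))))))))))))))))))))))))))))))))))))))))))))))))))))))))))))))))))))))))))))))))))))))))))))))))))))))))))))))))))))))))))))))))))))))))))))))))))))))))))))))))))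 (⟨cu_l0.b, cu_l0.S, [], cu_R0, 0⟩ :: cu_tl) (0 :: cu_lk) Pd.nil 0 = true := by decide +kernel
theorem cu_sound {G : Type*} [Group G] {φ : G →* Equiv.Perm ℕ} {γ : ℕ → G}
    (M : Model φ γ 12 m_ns m_ts) : ChainSound φ (gp γ [0, 2, 4, 6, 8, 10, 12, 14, 16]) 12 [] cu_ls :=
  ⟨Level.ok_sound' M cu_l0_ok,
   Level.ok_sound' M cu_l1_ok,
   Level.ok_sound' M cu_l2_ok,
   Level.ok_sound' M cu_l3_ok,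
   Level.okT_sound M cu_l4_ok,
   Level.okT_sound M cu_l5_ok, trivial⟩
theorem cu_cent {G : Type*} [Group G] {φ : G →* Equiv.Perm ℕ} {γ : ℕ → G}
    (C : Cert φ γ 12 m_ns m_ts [0, 2, 4, 6, 8, 10, 12, 14, 16] c_ls) : Cent γ cu_S.u cu_S.Cl 5 :=
  have X := (C.rechain (cu_sound C.M) (by decide +kernel)).exact
  have A := Srch.auxB_sound (S := cu_S) C.M (K := ⊤) le_top rfl cu_aux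
  have F := fun {tr : Tr} {R : ℕ} => Srch.found_of_run (S := cu_S) C.M C.base (by decide +kernel) X A (tr := tr) (R := R)
  Cent.of_found (S := cu_S) C.M X rfl (F cu_r0) cu_cov

end Cfsg.Agent.Fi22C
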