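import Cfsg.Agent.Fi22C.Cert
import Cfsg.Agent.CGT.Out

set_option autoImplicit false
set_option Elab.async false
set_option maxRecDepth 100000
set_option linter.all false

namespace Cfsg.Agent.Fi22C
open Cfsg.Agent.CGT

noncomputable def cx_l0 : Level := ⟨0, [[0], [2], [4], [6], [8], [10], [12], [14], [16]], [1, 0, 2, 3, 1, 4, 7, 5, 8, 3, 2, 6, 4, 7, 3, 1, 5, 4, 2, 7, 8, 3, 5, 1, 0, 6, 7, 8, 2, 4, 3, 1, 5, 0, 6, 2, 7, 1, 3, 2], 0x3ffffffffffffffffffffffffffffffffffffffffffffffffffffffffffffffffffffffffffffffffffffffffffffffffffffffffffffffffffffffffffffffffffffffffffffffffffffffffffffffffffffffffffffffffffffffffffffffffffffffffffffffffffffffffffffffffffffffffffffffffffffffffffffffffffffffffffffffffffffffffffffffffffffffffffffffffffffffffffffffffffffffffffffffffffffffffffffffffffffffffffffffffffffffffffffff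fffffffffffffffffffffffffffffffffffffffffffffffffffffffffffffffffffffffffffffffffffffffffffffffffffffffffffffffffffffffffffffffffffffffffffffffffffffffffffffffffffffffffffffffffffffffffffffffffffffffffffffffffffffffffffffffffffffffffffffffffffffffffffffffffffffffffffffffffffffffffffffffffffffffffffffffffffffffffffffffffffffffffffffffffffffffffffffffffffffffffffffffffffffffffffffffffffffffffffffffffffffffffffffffffffffffffffffffffffffffffffffffffffffffffffffffffffffffffffffffffffffffffffffff, 3510⟩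
noncomputable def cx_l1 : Level := ⟨637, [[4], [6], [8], [10], [14], [0], [12], [16], [2, 0, 4, 2, 6, 4, 8, 6, 14, 6, 8, 4, 6, 2, 4, 0, 2]], [7, 4, 1, 0, 2, 3, 1, 6, 4, 2, 7, 1, 3, 0, 4, 2, 1, 8, 3, 7, 2, 6, 1, 4, 3, 0, 1, 0], 0x180000000000000000000000000000900c000000000000200000000000009000000000000009000e000000000000000000050000000000000004b0000000000000026000380000000000000000000120068000000000000001cd80000000000201b0003000000000000009000000003401e1000000000000003bc00000000203c00100000000000000000d800000007803c170000000000000fc00000303c002000000000200000180003e000001e01e83e0000010000f800060f000000020000007000003c0007c0003c0fc03e00018047801c7800000000380000807c0003c01e00787e003c00e09e0670000000000004780008183c00f03c0e7f0021e06271b800000000000000000303c00c00f03c0e38efc0871973600000002180000000000001c0781e071c739be31cdef0000000020718800000000000fc1c71ce6df9bbf8000000010020e3994000000001fc739b7fbff00000000030003c736e0000000fcdbffff8000000014007e6ff000003efffff0000000f803efe0000ffff800001f00ff8003ffc0001d81fc00fe000760f8078007d0703003f430403ff42007fc801ff007c070440,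 693⟩
noncomputable def cx_l2 : Level := ⟨401, [[4], [6], [8], [10], [14], [0], [12], [2, 0, 4, 2, 6, 4, 8, 6, 14, 6, 8, 4, 6, 2, 4, 0, 2], [16, 14, 6, 8, 4, 6, 14, 16, 10, 8, 12, 10, 2, 0, 4, 2, 6, 4, 8, 6, 14, 6, 8, 4, 6, 2, 4, 0, 2, 10, 12, 8, 10, 16, 14, 6, 4, 8, 6, 14, 16]], [1, 2, 5, 3, 0, 1, 4, 0, 6, 1, 2, 3, 6, 0, 7, 3, 6], 0x2090045a000000000000000000120401540200000000000000040000442d016d80000004880000000004000252a236844010000000000000020000249b6a53e000004a54000084000040000094dab4f0800000000000000000c001655f3af80000ab60a00040200000000002d57ce7c0000000000000000003000ebeef0001b7c07a000000000000000004075f7780000000000000001003bdf0007fc03f000000000000000000081def80000000000000003fe007e0007fc0000000000000000000ff80000000000001f80e18000003ff800000000000000003f000000000000e073c01c0000003801fe40000000000000007000000000c171fc03c00000001000381fa0000000000006000000109ee1f81c0000000000180383d00000000020000078e7e0f0ec200000000001c063e00000000000de3631e39cc0700000000018670000000031e664e5a8030000000065800000033d10ab000c000002a000044c052001000050001081000200080008000100000000000000000000000000000000000000000000000,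 512⟩
noncomputable def cx_l3 : Level := ⟨894, [[12, 10, 14, 8, 6, 10, 16, 14, 6, 8, 4, 6, 14, 16, 10, 8, 12, 10, 2, 0, 4, 2, 6, 4, 8, 6, 14, 6, 8, 4, 6, 2, 4, 0, 2, 10, 12, 8, 10, 16, 14, 6, 4, 8, 6, 14, 16, 8, 10, 14, 0, 4, 8, 6, 0, 12, 14, 10, 12, 8, 10, 2, 0, 4, 2, 6, 4, 8, 6, 14, 6, 8, 4, 6, 2, 4, 0, 2, 10, 8, 12, 10, 6], [6, 10, 14, 4, 6, 16, 14, 6, 8, 4, 6, 14, 16, 10, 8, 12, 10, 2, 0, 4, 2, 6, 4, 8, 6, 14, 6, 8, 4, 6, 2, 4, 0, 2, 10, 12, 8, 10, 16, 14, 6, 4, 8, 6, 14, 16, 10, 6, 8, 4, 6, 14, 12, 4, 6, 0, 12, 14, 10, 12, 8, 10, 2, 0, 4, 2, 6, 4, 8, 6, 14, 6, 8, 4, 6, 2, 4, 0, 2, 10, 8, 12, 10, 8, 4]], [0, 1, 0, 1, 0, 1, 0, 1, 0, 1, 0, 1, 0, 1, 0], 0x300080002003620284004020041a45000400230200002002010042000a420500220000000820004108126116004000040200140820044030000200008000810d030a012510b09090421010021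000000024420018800000010000200b0008406f10004084000440008404014180000044640120020c580040000800008000808140000308380000804001540040004089801c2002a02300020000300040400060000470842021400000000005800454904811502001c0102008001000010e00c000c004000000001a00002049a189120880200020104200008100820200000000090100000200a020029020202000000111402102200000a20081080001006024444000004000002e0008800000404c084009000020000020409009000000101a0000800040330204402000811000040b000040c08000004300021060020c004022040040c04000c0020010040000110000200000040421082021000004000000000000e104000800000001400000000000002180a08400000000000000000000000a854000000000000000081c00000000020002422200000200111c0000208198800020488010825000202800008200250000d014, 432⟩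
noncomputable def cx_l4 : Level := ⟨232, [[14, 10, 8, 6, 8, 10, 16, 14, 6, 8, 4, 6, 14, 16, 10, 8, 12, 10, 2, 0, 4, 2, 6, 4, 8, 6, 14, 6, 8, 4, 6, 2, 4, 0, 2, 10, 12, 8, 10, 16, 14, 6, 4, 8, 6, 14, 16, 4, 6, 8, 10, 8, 6, 14], [8, 6, 8, 14, 6, 16, 14, 6, 8, 4, 6, 14, 16, 10, 8, 12, 10, 2, 0, 4, 2, 6, 4, 8, 6, 14, 6, 8, 4, 6, 2, 4, 0, 2, 10, 12, 8, 10, 16, 14, 6, 4, 8, 6, 14, 16, 6, 4, 8, 6, 0, 12, 14, 10, 12, 8, 10, 2, 0, 4, 2, 6, 4, 8, 6, 14, 6, 8, 4, 6, 2, 4, 0, 2, 10, 8, 12, 10, 6, 4]], [], 0x10000000000000000000000000000000000000000000000000000000000001000000000000000000000000000000000000000000000000000000000000000000000000000000000000000000000000000000000000000000000000000000000000000000000000000000000000000000000080000000000100000000000000000000000000000000000000000000000000000000000000000000000000000010000000000000000000200000000000000000000800000000000000000000000000000000008000000000004000000000000000000000000000000000000000000000000000100000000000000000010008000000000000000000000100000000000c000010000000001000020000000000080000000000000002000000012000000000020000100000080010000000040000000001000000010400000000000000000000000000000,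 30⟩
noncomputable def cx_l5 : Level := ⟨26, [[8, 10, 12, 6, 10, 16, 14, 6, 8, 4, 6, 14, 16, 10, 8, 12, 10, 2, 0, 4, 2, 6, 4, 8, 6, 14, 6, 8, 4, 6, 2, 4, 0, 2, 10, 12, 8, 10, 16, 14, 6, 4, 8, 6, 14, 16, 8, 10, 6, 8, 4, 6, 14, 0, 10, 12, 8, 6, 4, 10, 8, 6, 14, 6, 8, 10, 4, 6, 8, 12, 10, 8, 4, 6, 4], [8, 6, 16, 14, 6, 8, 4, 6, 14, 16, 10, 8, 12, 10, 2, 0, 4, 2, 6, 4, 8, 6, 14, 6, 8, 4, 6, 2, 4, 0, 2, 10, 12, 8, 10, 16, 14, 6, 4, 8, 6, 14, 16, 8, 10, 0, 4, 6, 16, 14, 6, 8, 4, 6, 14, 16, 10, 8, 12, 10, 2, 0, 4, 2, 6, 4, 8, 6, 14, 6, 8, 4, 6, 2, 4, 0, 2, 10, 12, 8, 10, 16, 14, 6, 4, 8, 6, 14, 16, 12, 6, 0, 12, 14, 10, 12, 8, 10, 2, 0, 4, 2, 6, 4, 8, 6, 14, 6, 8, 4, 6, 2, 4, 0, 2, 10, 8, 12, 10, 6, 8, 4, 6, 4]], [], 0x200000000000000000000000000000000000000000000000000000000000000000000000000000000000000000000000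0000000000000000000000000000000000000000000000000000000000000000000000000000000000000000000000000000000000000000000000000000000000000000000000000000000000000000000000000000000000000000000000000000000000000000000000000000000000000000000000000000000000000000000000000000000000000000000000000000000000000000000000000000000000000000000000000000000000000000000000020000000000000000000000000000000000000000000000000000000000000000000000000000000000000000000000000000000000000000000000000000000000000000000000000000000000000000000000000000000000000000000000000000000000000000000000000000000000000000000000000008000000000000000000000000000000000000000000000000000000000000000004000000, 4⟩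
noncomputable def cx_ls : List Level := [cx_l0, cx_l1, cx_l2, cx_l3, cx_l4, cx_l5]
noncomputable def cx_S : Srch := ⟨12, m_ts, (chainBase [] c_ls), [16, 14, 6, 8, 4, 6, 14, 10, 8, 6, 12, 4, 10, 14, 6, 4, 16, 8, 2, 0, 10, 14, 6, 4, 16, 8, 2, 0, 4, 12, 6, 8, 10, 14, 6, 4, 8, 6, 14, 16], [16, 14, 6, 8, 4, 6, 14, 10, 8, 6, 12, 4, 10, 14, 6, 4, 16, 8, 2, 0, 10, 14, 6, 4, 16, 8, 2, 0, 4, 12, 6, 8, 10, 14, 6, 4, 8, 6, 14, 16], []⟩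
noncomputable def cx_lk : List ℕ := [1, 638, 402, 895, 233]
noncomputable def cx_tl : List Level := [cx_l1, cx_l2, cx_l3, cx_l4, cx_l5]
noncomputable def cx_R0 : ℕ := 0x10000000000000000000000000000000000002000000000000000000000000000000000048000840000002080200000000000000000000000002000291610000000c88000800080000000000000401000070840000001d88b100000100000000208a0800058c60805090040000010000004c18804656802bf0c2340014020b1170140815d058000a24f63050a96c4300a2c565a446b1887af812a2301c7a90f8056fe2cb9a6c69c8bd735dbabfffbff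
theorem cx_l0_ok : (ptsOK 12 [] && (wordsIn [0, 2, 4, 6, 8, 10, 12, 14, 16] cx_l0.S && cx_l0.ok 12 m_ns m_ts [])) = true := by decide +kernel
theorem cx_l1_ok : (ptsOK 12 [0] && (wordsIn [0, 2, 4, 6, 8, 10, 12, 14, 16] cx_l1.S && cx_l1.ok 12 m_ns m_ts [0])) = true := by decide +kernel
theorem cx_l2_ok : (ptsOK 12 [637, 0] && (wordsIn [0, 2, 4, 6, 8, 10, 12, 14, 16] cx_l2.S && cx_l2.ok 12 m_ns m_ts [637, 0])) = true := by decide +kernel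
theorem cx_l3_ok : (ptsOK 12 [401, 637, 0] && (wordsIn [0, 2, 4, 6, 8, 10, 12, 14, 16] cx_l3.S && cx_l3.ok 12 m_ns m_ts [401, 637, 0])) = true := by decide +kernel
theorem cx_l4_ok : cx_l4.okT 12 m_ts [0, 2, 4, 6, 8, 10, 12, 14, 16] [894, 401, 637, 0] (.cons [0] (.cons [2] (.cons [0] (.cons [2] (.cons [0] .nil .nil) (.cons [3] (.cons [0] .nil .nil) .nil)) .nil) (.cons [3] (.cons [0] .nil .nil) .nil)) (.cons [2] (.cons [0] (.cons [2] (.cons [0] (.cons [2] .nil .nil) .nil) (.cons [3] (.cons [0] .nil .nil) .nil)) (.cons [2] (.cons [0] (.cons [3] .nil .nil) .nil) .nil)) (.cons [3] (.cons [0] (.cons [2] (.cons [0] (.cons [3] .nil .nil) .nil) (.cons [3] .nil .nil)) (.cons [3] (.cons [0] (.cons [2] .nil (.cons [3] .nil .nil)) .nil) .nil)) .nil))) = true := by decide +kernel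
theorem cx_l5_ok : cx_l5.okT 12 m_ts [0, 2, 4, 6, 8, 10, 12, 14, 16] [232, 894, 401, 637, 0] (.cons [0] (.cons [2] .nil .nil) (.cons [2] .nil .nil)) = true := by decide +kernel
theorem cx_aux : cx_S.auxB [0, 2, 4, 6, 8, 10, 12, 14, 16] cx_ls [] (0 :: cx_lk) = true := by decide +kernel
theorem cx_cov : Nat.beq (Nat.land cx_l0.O (Srch.cover m_ns (invW cx_S.u') cx_R0 12)) cx_l0.O = true := by decide +kernel
theorem cx_r0 : cx_S.run (.cons [] (.cons [] (.cons [] (.cons [] (.cons [] (.cons [] (.leaf 2000) .nil) .nil) .nil) .nil) .nil) (.cons [2] .nil (.cons [0, 2] .nil (.cons [4, 2] (.cons [6, 12, 0, 2, 8, 14, 16, 6, 4, 2, 8, 14] .nil .nil) (.cons [4, 0, 2] .nil (.cons [6, 4, 2] (.cons [0, 8, 2, 4, 6, 16, 12, 6, 4, 2, 8, 14] (.cons [6, 4, 8, 2, 4, 10] (.cons [1, 1, 1, 2, 0, 2, 1] .nil .nil) .nil) .nil) (.cons [2,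 4, 0, 2] .nil (.cons [6, 4, 0, 2] .nil (.cons [8, 6, 4, 2] .nil (.cons [14, 6, 4, 2] .nil (.cons [8, 6, 4, 0, 2] .nil (.cons [14, 6, 4, 0, 2] .nil (.cons [10, 8, 6, 4, 2] (.cons [6, 16, 6, 4, 2, 8, 14] (.cons [10, 8, 2, 4, 0, 8, 2, 4] (.cons [0, 3, 1, 3, 3] .nil .nil) .nil) .nil) (.cons [14, 8, 6, 4, 2] .nil (.cons [16, 14, 6, 4, 2] .nil (.cons [4, 6, 2, 4, 0, 2] (.cons [12, 14, 8, 2, 0, 4, 2, 8, 14, 16, 6, 4, 2, 8, 14] (.cons [4, 6, 14, 2, 4, 0, 2] .nil .nil) .nil) (.cons [8, 6, 2, 4, 0, 2] (.cons [4, 2, 0, 2, 4, 6, 16, 12, 6, 4, 2, 8, 14] (.cons [6, 14, 4, 8, 2, 4] (.cons [0, 2, 2, 0, 2] .nil .nil) .nil) .nil) (.cons [14, 6, 2, 4, 0, 2] (.cons [0, 4, 2, 14, 8, 0, 2, 4, 6, 16, 14] (.cons [10, 0, 2, 0, 8, 2, 4] (.cons [2, 1, 1, 3, 1] .nil .nil) .nil) .nil) (.cons [10, 8, 6, 4, 0, 2] .nil (.cons [14, 8, 6, 4,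 0, 2] .nil (.cons [16, 14, 6, 4, 0, 2] .nil (.cons [12, 10, 8, 6, 4, 2] .nil (.cons [14, 10, 8, 6, 4, 2] .nil (.cons [6, 14, 8, 6, 4, 2] .nil (.cons [16, 14, 8, 6, 4, 2] (.cons [0, 8, 2, 4, 6, 14, 8, 2, 0, 4, 2, 8, 14] .nil .nil) (.cons [14, 4, 6, 2, 4, 0, 2] .nil (.cons [14, 8, 6, 2, 4, 0, 2] .nil (.cons [12, 10, 8, 6, 4, 0, 2] .nil (.cons [14, 10, 8, 6, 4, 0, 2] .nil (.cons [6, 14, 8, 6, 4, 0, 2] .nil (.cons [14, 12, 10, 8, 6, 4, 2] (.cons [8, 2, 0, 14, 16, 6, 4, 2, 8, 14] (.cons [0, 2, 4, 10] (.cons [1, 1, 3, 3, 0, 0] .nil .nil) .nil) .nil) (.cons [6, 14, 10, 8, 6, 4, 2] .nil (.cons [4, 6, 14, 8, 6, 4, 2] .nil (.cons [16, 6, 14, 8, 6, 4, 2] .nil (.cons [6, 8, 4, 6, 2, 4, 0, 2] (.cons [4, 2, 0, 2, 4, 6, 16, 12, 6, 4, 2, 8, 14] .nil .nil) (.cons [14, 8, 4, 6, 2, 4, 0, 2] .nil (.cons [16, 14, 4, 6, 2, 4, 0,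 2] (.cons [2, 4, 6, 0, 8, 14, 16, 6, 4, 2, 8, 14] (.cons [14, 0, 2] (.cons [1, 2, 2, 1, 1, 3] .nil .nil) .nil) .nil) (.cons [12, 10, 8, 6, 2, 4, 0, 2] .nil (.cons [16, 14, 8, 6, 2, 4, 0, 2] .nil (.cons [14, 12, 10, 8, 6, 4, 0, 2] .nil (.cons [6, 14, 10, 8, 6, 4, 0, 2] .nil (.cons [4, 6, 14, 8, 6, 4, 0, 2] .nil (.cons [6, 14, 12, 10, 8, 6, 4, 2] .nil (.cons [16, 14, 12, 10, 8, 6, 4, 2] (.cons [6, 4, 8, 2, 0, 4, 2, 8, 14, 16, 6, 4, 2, 8, 14] (.cons [12, 6, 14, 2, 4] (.cons [0, 3, 3, 1] .nil .nil) .nil) .nil) (.cons [4, 6, 14, 10, 8, 6, 4, 2] .nil (.cons [8, 6, 14, 10, 8, 6, 4, 2] .nil (.cons [2, 4, 6, 14, 8, 6, 4, 2] .nil (.cons [12, 10, 8, 4, 6, 2, 4, 0, 2] .nil (.cons [16, 6, 14, 4, 6, 2, 4, 0, 2] .nil (.cons [14, 12, 10, 8, 6, 2, 4, 0, 2] .nil (.cons [6, 14, 10, 8, 6, 2, 4, 0, 2] .nil (.cons [6, 14, 12, 10,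 8, 6, 4, 0, 2] .nil (.cons [4, 6, 14, 10, 8, 6, 4, 0, 2] .nil (.cons [8, 6, 14, 10, 8, 6, 4, 0, 2] .nil (.cons [4, 6, 14, 12, 10, 8, 6, 4, 2] .nil (.cons [8, 6, 14, 12, 10, 8, 6, 4, 2] .nil (.cons [2, 4, 6, 14, 10, 8, 6, 4, 2] (.cons [6, 8, 2, 0, 4, 2, 8, 14] (.cons [12, 6, 4, 0, 2, 4, 10] (.cons [2, 2, 1, 1, 3] .nil .nil) .nil) .nil) (.cons [8, 4, 6, 14, 10, 8, 6, 4, 2] .nil (.cons [14, 16, 6, 14, 10, 8, 6, 4, 2] (.cons [4, 2, 0, 4, 2, 8, 14, 16, 6, 4, 2, 8, 14] (.cons [12, 6, 14, 4] (.cons [2, 0, 2, 2, 0] .nil .nil) .nil) .nil) (.cons [14, 16, 4, 6, 14, 8, 6, 4, 2] .nil (.cons [8, 10, 6, 8, 4, 6, 2, 4, 0, 2] (.cons [6, 4, 2, 0, 8, 2, 4, 6, 14, 8, 2, 0, 4, 2, 8, 14] (.cons [4, 6, 14, 4, 0, 2] .nil .nil) .nil) (.cons [16, 14, 10, 8, 4, 6, 2, 4, 0, 2] .nil (.cons [14, 16, 6, 14, 4, 6, 2, 4, 0, 2] .nil (.cons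 [6, 14, 12, 10, 8, 6, 2, 4, 0, 2] .nil (.cons [8, 6, 14, 10, 8, 6, 2, 4, 0, 2] .nil (.cons [4, 6, 14, 12, 10, 8, 6, 4, 0, 2] .nil (.cons [8, 6, 14, 12, 10, 8, 6, 4, 0, 2] .nil (.cons [8, 4, 6, 14, 10, 8, 6, 4, 0, 2] .nil (.cons [14, 16, 4, 6, 14, 8, 6, 4, 0, 2] .nil (.cons [2, 4, 6, 14, 12, 10, 8, 6, 4, 2] .nil (.cons [8, 4, 6, 14, 12, 10, 8, 6, 4, 2] (.cons [0, 14, 16, 6, 4, 2, 8, 14] .nil .nil) (.cons [16, 4, 6, 14, 12, 10, 8, 6, 4, 2] .nil (.cons [10, 8, 6, 14, 12, 10, 8, 6, 4, 2] .nil (.cons [16, 8, 6, 14, 12, 10, 8, 6, 4, 2] .nil (.cons [14, 16, 6, 14, 12, 10, 8, 6, 4, 2] (.cons [2, 8, 0, 2, 4, 12, 6, 16, 14] (.cons [6, 2, 4, 0, 2, 10] (.cons [3, 0, 3, 3, 1] .nil .nil) .nil) .nil) (.cons [16, 2, 4, 6, 14, 10, 8, 6, 4, 2] .nil (.cons [6, 8, 4, 6, 14, 10, 8, 6, 4, 2] .nil (.cons [14, 16, 4, 6, 14, 10, 8,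 6, 4, 2] (.cons [12, 0, 2, 4, 6, 16, 12, 6, 4, 2, 8, 14] .nil .nil) (.cons [14, 16, 2, 4, 6, 14, 8, 6, 4, 2] .nil (.cons [16, 4, 6, 14, 12, 10, 8, 6, 4, 0, 2] (.cons [2, 8, 14] (.cons [6, 14, 4, 8, 2, 4, 10] (.cons [1, 1] .nil .nil) .nil) .nil) (.cons [10, 8, 6, 14, 12, 10, 8, 6, 4, 0, 2] .nil (.cons [16, 8, 6, 14, 12, 10, 8, 6, 4, 0, 2] .nil (.cons [14, 16, 6, 14, 12, 10, 8, 6, 4, 0, 2] (.cons [12, 2, 4, 6, 8, 2, 0, 4, 2, 8, 14] .nil .nil) (.cons [6, 8, 4, 6, 14, 10, 8, 6, 4, 0, 2] .nil (.cons [8, 2, 4, 6, 14, 12, 10, 8, 6, 4, 2] .nil (.cons [10, 8, 4, 6, 14, 12, 10, 8, 6, 4, 2] .nil (.cons [14, 16, 4, 6, 14, 12, 10, 8, 6, 4, 2] .nil (.cons [14, 16, 8, 6, 14, 12, 10, 8, 6, 4, 2] .nil (.cons [6, 8, 2, 4, 6, 14, 10, 8, 6, 4, 2] .nil (.cons [16, 8, 2, 4, 6, 14, 10, 8, 6, 4, 2] .nil (.cons [14, 16, 2, 4, 6, 14,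 10, 8, 6, 4, 2] (.cons [16, 2, 8, 14] .nil .nil) (.cons [6, 14, 16, 4, 6, 14, 10, 8, 6, 4, 2] .nil (.cons [6, 14, 16, 8, 6, 14, 10, 8, 6, 4, 2] .nil (.cons [6, 14, 16, 2, 4, 6, 14, 8, 6, 4, 2] .nil (.cons [10, 8, 4, 6, 14, 12, 10, 8, 6, 4, 0, 2] .nil (.cons [16, 8, 4, 6, 14, 12, 10, 8, 6, 4, 0, 2] (.cons [8, 14, 12, 4, 6, 16, 12, 6, 4, 2, 8, 14] (.cons [4, 6, 2, 4, 0, 2, 10, 6] (.cons [0, 0] .nil .nil) .nil) .nil) (.cons [14, 6, 8, 4, 6, 14, 10, 8, 6, 4, 0, 2] .nil (.cons [6, 14, 16, 8, 6, 14, 10, 8, 6, 4, 0, 2] .nil (.cons [6, 8, 2, 4, 6, 14, 12, 10, 8, 6, 4, 2] .nil (.cons [16, 8, 2, 4, 6, 14, 12, 10, 8, 6, 4, 2] .nil (.cons [14, 6, 8, 4, 6, 14, 12, 10, 8, 6, 4, 2] .nil (.cons [4, 6, 8, 2, 4, 6, 14, 10, 8, 6, 4, 2] .nil (.cons [14, 6, 8, 2, 4, 6, 14, 10, 8, 6, 4, 2] .nil (.cons [16, 6, 8, 2, 4, 6, 14, 10,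 8, 6, 4, 2] .nil (.cons [14, 16, 8, 2, 4, 6, 14, 10, 8, 6, 4, 2] .nil (.cons [6, 14, 16, 2, 4, 6, 14, 10, 8, 6, 4, 2] .nil (.cons [14, 16, 6, 8, 4, 6, 14, 10, 8, 6, 4, 2] .nil (.cons [8, 6, 14, 16, 4, 6, 14, 10, 8, 6, 4, 2] .nil (.cons [4, 6, 14, 16, 8, 6, 14, 10, 8, 6, 4, 2] .nil (.cons [4, 6, 14, 16, 2, 4, 6, 14, 8, 6, 4, 2] .nil (.cons [8, 6, 14, 16, 2, 4, 6, 14, 8, 6, 4, 2] .nil (.cons [10, 6, 8, 4, 6, 14, 12, 10, 8, 6, 4, 0, 2] (.cons [8, 4, 0, 2, 14, 8, 2, 4, 12, 6, 16, 14] .nil .nil) (.cons [14, 16, 8, 4, 6, 14, 12, 10, 8, 6, 4, 0, 2] .nil (.cons [6, 14, 16, 4, 6, 14, 12, 10, 8, 6, 4, 0, 2] .nil (.cons [14, 16, 6, 8, 4, 6, 14, 10, 8, 6, 4, 0, 2] .nil (.cons [6, 14, 16, 8, 4, 6, 14, 10, 8, 6, 4, 0, 2] .nil (.cons [4, 6, 14, 16, 8, 6, 14, 10, 8, 6, 4, 0, 2] .nil (.cons [4, 6, 8, 2, 4, 6, 14, 12, 10, 8,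 6, 4, 2] .nil (.cons [10, 6, 8, 2, 4, 6, 14, 12, 10, 8, 6, 4, 2] .nil (.cons [14, 16, 8, 2, 4, 6, 14, 12, 10, 8, 6, 4, 2] .nil (.cons [16, 10, 6, 8, 4, 6, 14, 12, 10, 8, 6, 4, 2] .nil (.cons [14, 16, 10, 8, 4, 6, 14, 12, 10, 8, 6, 4, 2] (.cons [2, 4, 6, 0, 8, 14, 16, 6, 4, 2, 8, 14] (.cons [12, 4, 6, 14, 4, 8, 2, 4] (.cons [0, 0, 2, 2, 0, 0] .nil .nil) .nil) .nil) (.cons [8, 6, 14, 16, 4, 6, 14, 12, 10, 8, 6, 4, 2] (.cons [16, 6, 4, 2, 8, 14] (.cons [4, 6, 14, 8] (.cons [2, 0, 3, 1, 1, 1] .nil .nil) .nil) .nil) (.cons [6, 14, 16, 10, 8, 6, 14, 12, 10, 8, 6, 4, 2] .nil (.cons [14, 4, 6, 8, 2, 4, 6, 14, 10, 8, 6, 4, 2] .nil (.cons [14, 16, 6, 8, 2, 4, 6, 14, 10, 8, 6, 4, 2] .nil (.cons [6, 14, 16, 8, 2, 4, 6, 14, 10, 8, 6, 4, 2] .nil (.cons [8, 6, 14, 16, 2, 4, 6, 14, 10, 8, 6, 4, 2] .nil (.cons [6, 14, 16, 6,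 8, 4, 6, 14, 10, 8, 6, 4, 2] .nil (.cons [2, 4, 6, 14, 16, 8, 6, 14, 10, 8, 6, 4, 2] .nil (.cons [8, 4, 6, 14, 16, 2, 4, 6, 14, 8, 6, 4, 2] .nil (.cons [12, 10, 8, 6, 14, 16, 4, 6, 14, 8, 6, 4, 2] (.cons [12, 6, 0, 12, 8, 14, 16, 6, 4, 2, 8, 14] .nil .nil) (.cons [8, 10, 6, 8, 4, 6, 14, 12, 10, 8, 6, 4, 0, 2] (.cons [8, 2, 4, 6, 16, 6, 4, 2, 8, 14] (.cons [10, 6, 14, 12, 6, 4, 2] (.cons [1, 1, 1, 1] .nil .nil) .nil) .nil) (.cons [16, 10, 6, 8, 4, 6, 14, 12, 10, 8, 6, 4, 0, 2] .nil (.cons [6, 14, 16, 6, 8, 4, 6, 14, 10, 8, 6, 4, 0, 2] .nil (.cons [4, 6, 14, 16, 8, 4, 6, 14, 10, 8, 6, 4, 0, 2] .nil (.cons [10, 4, 6, 8, 2, 4, 6, 14, 12, 10, 8, 6, 4, 2] .nil (.cons [14, 10, 6, 8, 2, 4, 6, 14, 12, 10, 8, 6, 4, 2] (.cons [4, 6, 2, 0, 14, 16, 6, 4, 2, 8, 14] (.cons [10, 4, 2, 0, 8, 2, 4] (.cons [1, 1, 2, 0, 0] .nil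 .nil) .nil) .nil) (.cons [16, 10, 6, 8, 2, 4, 6, 14, 12, 10, 8, 6, 4, 2] .nil (.cons [14, 16, 6, 8, 2, 4, 6, 14, 12, 10, 8, 6, 4, 2] (.cons [8, 2, 0, 12, 6, 16, 6, 4, 2, 8, 14] (.cons [4, 6, 14, 4, 0, 2, 4] (.cons [0, 2, 1, 1, 2, 2] .nil .nil) .nil) .nil) (.cons [14, 16, 10, 8, 2, 4, 6, 14, 12, 10, 8, 6, 4, 2] .nil (.cons [4, 6, 14, 16, 2, 4, 6, 14, 12, 10, 8, 6, 4, 2] .nil (.cons [16, 8, 10, 6, 8, 4, 6, 14, 12, 10, 8, 6, 4, 2] .nil (.cons [14, 16, 10, 6, 8, 4, 6, 14, 12, 10, 8, 6, 4, 2] .nil (.cons [6, 14, 16, 6, 8, 4, 6, 14, 12, 10, 8, 6, 4, 2] .nil (.cons [4, 6, 14, 16, 10, 8, 6, 14, 12, 10, 8, 6, 4, 2] .nil (.cons [2, 4, 6, 14, 16, 8, 6, 14, 12, 10, 8, 6, 4, 2] .nil (.cons [4, 6, 14, 16, 8, 2, 4, 6, 14, 10, 8, 6, 4, 2] .nil (.cons [8, 6, 14, 16, 8, 2, 4, 6, 14, 10, 8, 6, 4, 2] .nil (.cons [4, 6, 14, 16,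 6, 8, 4, 6, 14, 10, 8, 6, 4, 2] .nil (.cons [8, 6, 14, 16, 6, 8, 4, 6, 14, 10, 8, 6, 4, 2] .nil (.cons [8, 4, 6, 14, 16, 8, 4, 6, 14, 10, 8, 6, 4, 2] .nil (.cons [10, 8, 6, 14, 16, 8, 4, 6, 14, 10, 8, 6, 4, 2] (.cons [8, 4, 2, 0, 6, 16, 6, 4, 2, 8, 14] (.cons [10, 4, 2, 0, 8, 2, 4] (.cons [0, 0, 0, 3, 1, 3, 1] .nil .nil) .nil) .nil) (.cons [12, 10, 8, 6, 14, 16, 4, 6, 14, 10, 8, 6, 4, 2] .nil (.cons [0, 2, 4, 6, 14, 16, 8, 6, 14, 10, 8, 6, 4, 2] .nil (.cons [12, 10, 8, 6, 14, 16, 2, 4, 6, 14, 8, 6, 4, 2] .nil (.cons [2, 4, 6, 14, 16, 8, 6, 14, 10, 8, 6, 2, 4, 0, 2] (.cons [14, 4, 2, 8, 4, 6, 16, 14] (.cons [4, 2, 6, 4, 12, 6, 14, 4] (.cons [2, 1, 3, 3, 3] .nil .nil) .nil) .nil) (.cons [14, 16, 10, 6, 8, 4, 6, 14, 12, 10, 8, 6, 4, 0, 2] .nil (.cons [6, 14, 16, 6, 8, 4, 6, 14, 12, 10, 8, 6, 4, 0, 2] .nil (.cons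 [8, 10, 4, 6, 8, 2, 4, 6, 14, 12, 10, 8, 6, 4, 2] (.cons [14, 8, 2, 4, 6, 16, 14] .nil .nil) (.cons [14, 10, 4, 6, 8, 2, 4, 6, 14, 12, 10, 8, 6, 4, 2] (.cons [12, 6, 4, 2, 8, 2, 4, 12, 6, 16, 14] (.cons [6, 14, 4, 0, 2, 4, 10] (.cons [1, 2, 0, 0, 3, 0, 2] .nil .nil) .nil) .nil) (.cons [6, 14, 4, 6, 8, 2, 4, 6, 14, 12, 10, 8, 6, 4, 2] .nil (.cons [14, 16, 10, 6, 8, 2, 4, 6, 14, 12, 10, 8, 6, 4, 2] .nil (.cons [6, 14, 16, 6, 8, 2, 4, 6, 14, 12, 10, 8, 6, 4, 2] .nil (.cons [6, 14, 16, 10, 8, 2, 4, 6, 14, 12, 10, 8, 6, 4, 2] .nil (.cons [4, 6, 14, 16, 8, 2, 4, 6, 14, 12, 10, 8, 6, 4, 2] (.cons [12, 6, 16, 0, 4, 2, 8, 14] (.cons [4, 6, 14, 4, 10, 8] (.cons [2, 2, 0, 0, 0] .nil .nil) .nil) .nil) (.cons [8, 4, 6, 14, 16, 2, 4, 6, 14, 12, 10, 8, 6, 4, 2] (.cons [8, 14, 2, 8, 12, 6, 16, 14] .nil .nil) (.cons [6, 14,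 8, 10, 6, 8, 4, 6, 14, 12, 10, 8, 6, 4, 2] .nil (.cons [8, 6, 14, 16, 6, 8, 4, 6, 14, 12, 10, 8, 6, 4, 2] .nil (.cons [2, 4, 6, 14, 16, 10, 8, 6, 14, 12, 10, 8, 6, 4, 2] .nil (.cons [0, 2, 4, 6, 14, 16, 8, 6, 14, 12, 10, 8, 6, 4, 2] .nil (.cons [2, 4, 6, 14, 16, 8, 2, 4, 6, 14, 10, 8, 6, 4, 2] .nil (.cons [8, 4, 6, 14, 16, 8, 2, 4, 6, 14, 10, 8, 6, 4, 2] .nil (.cons [10, 8, 6, 14, 16, 8, 2, 4, 6, 14, 10, 8, 6, 4, 2] .nil (.cons [10, 8, 4, 6, 14, 16, 2, 4, 6, 14, 10, 8, 6, 4, 2] (.cons [4, 0, 2, 8, 4, 6, 16, 14] .nil .nil) (.cons [2, 4, 6, 14, 16, 6, 8, 4, 6, 14, 10, 8, 6, 4, 2] .nil (.cons [8, 2, 4, 6, 14, 16, 8, 4, 6, 14, 10, 8, 6, 4, 2] .nil (.cons [10, 8, 4, 6, 14, 16, 8, 4, 6, 14, 10, 8, 6, 4, 2] .nil (.cons [10, 6, 8, 4, 6, 14, 16, 2, 4, 6, 14, 8, 6, 4, 2] (.cons [14, 6, 12, 2, 4, 6, 16, 12, 6, 4, 2, 8,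 14] (.cons [8, 2, 4, 2, 0, 8, 2, 4] (.cons [0, 3, 3, 0] .nil .nil) .nil) .nil) (.cons [0, 2, 4, 6, 14, 16, 8, 6, 14, 10, 8, 6, 2, 4, 0, 2] .nil (.cons [4, 6, 14, 16, 10, 8, 4, 6, 14, 12, 10, 8, 6, 4, 0, 2] .nil (.cons [2, 4, 6, 14, 16, 8, 4, 6, 14, 12, 10, 8, 6, 4, 0, 2] .nil (.cons [10, 8, 4, 6, 14, 16, 8, 4, 6, 14, 10, 8, 6, 4, 0, 2] .nil (.cons [6, 8, 10, 4, 6, 8, 2, 4, 6, 14, 12, 10, 8, 6, 4, 2] .nil (.cons [14, 8, 10, 4, 6, 8, 2, 4, 6, 14, 12, 10, 8, 6, 4, 2] .nil (.cons [14, 16, 10, 4, 6, 8, 2, 4, 6, 14, 12, 10, 8, 6, 4, 2] .nil (.cons [6, 14, 8, 10, 6, 8, 2, 4, 6, 14, 12, 10, 8, 6, 4, 2] .nil (.cons [16, 14, 8, 10, 6, 8, 2, 4, 6, 14, 12, 10, 8, 6, 4, 2] .nil (.cons [4, 6, 14, 16, 6, 8, 2, 4, 6, 14, 12, 10, 8, 6, 4, 2] .nil (.cons [8, 6, 14, 16, 6, 8, 2, 4, 6, 14, 12, 10, 8, 6, 4, 2] .nil (.cons [4, 6,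 14, 16, 10, 8, 2, 4, 6, 14, 12, 10, 8, 6, 4, 2] .nil (.cons [8, 6, 14, 16, 10, 8, 2, 4, 6, 14, 12, 10, 8, 6, 4, 2] .nil (.cons [2, 4, 6, 14, 16, 8, 2, 4, 6, 14, 12, 10, 8, 6, 4, 2] .nil (.cons [8, 4, 6, 14, 16, 8, 2, 4, 6, 14, 12, 10, 8, 6, 4, 2] .nil (.cons [6, 8, 4, 6, 14, 16, 2, 4, 6, 14, 12, 10, 8, 6, 4, 2] .nil (.cons [12, 10, 8, 6, 14, 16, 2, 4, 6, 14, 12, 10, 8, 6, 4, 2] .nil (.cons [2, 4, 6, 14, 16, 6, 8, 4, 6, 14, 12, 10, 8, 6, 4, 2] (.cons [14, 6, 4, 2, 8, 4, 6, 16, 14] (.cons [6, 14] .nil .nil) .nil) (.cons [10, 8, 6, 14, 16, 6, 8, 4, 6, 14, 12, 10, 8, 6, 4, 2] .nil (.cons [2, 4, 6, 14, 16, 10, 8, 4, 6, 14, 12, 10, 8, 6, 4, 2] .nil (.cons [10, 8, 6, 14, 16, 10, 8, 4, 6, 14, 12, 10, 8, 6, 4, 2] .nil (.cons [8, 2, 4, 6, 14, 16, 8, 4, 6, 14, 12, 10, 8, 6, 4, 2] .nil (.cons [0, 2, 4, 6, 14, 16, 10, 8,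 6, 14, 12, 10, 8, 6, 4, 2] .nil (.cons [8, 2, 4, 6, 14, 16, 10, 8, 6, 14, 12, 10, 8, 6, 4, 2] .nil (.cons [14, 16, 6, 14, 4, 6, 8, 2, 4, 6, 14, 10, 8, 6, 4, 2] .nil (.cons [0, 2, 4, 6, 14, 16, 8, 2, 4, 6, 14, 10, 8, 6, 4, 2] .nil (.cons [12, 10, 8, 6, 14, 16, 8, 2, 4, 6, 14, 10, 8, 6, 4, 2] .nil (.cons [10, 6, 8, 4, 6, 14, 16, 2, 4, 6, 14, 10, 8, 6, 4, 2] (.cons [0, 4, 2, 8, 6, 16, 14] (.cons [4, 6, 14, 10, 0, 8, 2, 4] (.cons [0, 0, 2, 1, 2, 0, 0] .nil .nil) .nil) .nil) (.cons [0, 2, 4, 6, 14, 16, 6, 8, 4, 6, 14, 10, 8, 6, 4, 2] .nil (.cons [8, 2, 4, 6, 14, 16, 6, 8, 4, 6, 14, 10, 8, 6, 4, 2] .nil (.cons [12, 10, 8, 6, 14, 16, 6, 8, 4, 6, 14, 10, 8, 6, 4, 2] .nil (.cons [12, 10, 8, 6, 14, 16, 8, 4, 6, 14, 12, 10, 8, 6, 4, 0, 2] .nil (.cons [16, 6, 14, 8, 10, 6, 8, 2, 4, 6, 14, 12, 10, 8, 6, 4, 2] .nil (.cons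 [10, 8, 6, 14, 16, 6, 8, 2, 4, 6, 14, 12, 10, 8, 6, 4, 2] .nil (.cons [10, 8, 6, 14, 16, 10, 8, 2, 4, 6, 14, 12, 10, 8, 6, 4, 2] (.cons [14, 6, 4, 12, 6, 16, 2, 0, 4, 2, 8, 14] (.cons [2, 6, 4, 12, 6, 14, 10] (.cons [1, 1, 1, 3, 3, 1] .nil .nil) .nil) .nil) (.cons [12, 10, 8, 6, 14, 16, 8, 2, 4, 6, 14, 12, 10, 8, 6, 4, 2] .nil (.cons [14, 6, 8, 4, 6, 14, 16, 2, 4, 6, 14, 12, 10, 8, 6, 4, 2] .nil (.cons [2, 4, 6, 14, 16, 10, 6, 8, 4, 6, 14, 12, 10, 8, 6, 4, 2] .nil (.cons [0, 2, 4, 6, 14, 16, 6, 8, 4, 6, 14, 12, 10, 8, 6, 4, 2] (.cons [4, 8, 14, 2, 8, 4, 6, 16, 14] (.cons [14, 6, 4, 8, 2, 4] (.cons [3, 1, 1, 3, 3] .nil .nil) .nil) .nil) (.cons [8, 2, 4, 6, 14, 16, 6, 8, 4, 6, 14, 12, 10, 8, 6, 4, 2] (.cons [6, 2, 0, 4, 2, 8, 6, 16, 14] (.cons [6, 14, 8, 0, 2, 4, 8] (.cons [3, 1, 3, 1, 3] .nil .nil) .nil) .nil)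 (.cons [0, 2, 4, 6, 14, 16, 10, 8, 4, 6, 14, 12, 10, 8, 6, 4, 2] (.cons [4, 2, 8, 4, 2, 6, 4, 12, 6, 16, 14] (.cons [6, 14, 10] (.cons [2, 0, 2, 2] .nil .nil) .nil) .nil) (.cons [8, 2, 4, 6, 14, 16, 10, 8, 4, 6, 14, 12, 10, 8, 6, 4, 2] .nil (.cons [8, 0, 2, 4, 6, 14, 16, 8, 4, 6, 14, 12, 10, 8, 6, 4, 2] .nil (.cons [10, 8, 2, 4, 6, 14, 16, 8, 4, 6, 14, 12, 10, 8, 6, 4, 2] (.cons [14, 2, 4, 6, 16, 2, 0, 4, 2, 8, 14] (.cons [12, 6, 14, 4, 2, 10] (.cons [0, 3, 1, 3] .nil .nil) .nil) .nil) (.cons [8, 0, 2, 4, 6, 14, 16, 10, 8, 6, 14, 12, 10, 8, 6, 4, 2] .nil (.cons [8, 0, 2, 4, 6, 14, 16, 8, 2, 4, 6, 14, 10, 8, 6, 4, 2] .nil (.cons [12, 10, 6, 8, 4, 6, 14, 16, 2, 4, 6, 14, 10, 8, 6, 4, 2] .nil (.cons [8, 2, 4, 6, 14, 16, 14, 6, 8, 4, 6, 14, 10, 8, 6, 4, 2] (.cons [0, 2, 8, 2, 6, 4, 12, 6, 16, 14] (.cons [8, 2,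 4, 6, 14, 4, 2] (.cons [0, 2, 2, 1, 1] .nil .nil) .nil) .nil) (.cons [8, 0, 2, 4, 6, 14, 16, 6, 8, 4, 6, 14, 10, 8, 6, 4, 2] (.cons [12, 6, 4, 2, 8, 2, 4, 12, 6, 16, 14] (.cons [14, 8, 2, 4, 10, 8] (.cons [3, 1, 2, 0, 0] .nil .nil) .nil) .nil) (.cons [12, 10, 8, 2, 4, 6, 14, 16, 8, 4, 6, 14, 10, 8, 6, 4, 2] (.cons [16, 0, 2, 8, 14] (.cons [4, 2, 10] (.cons [3, 3, 1, 3] .nil .nil) .nil) .nil) (.cons [8, 2, 4, 6, 14, 16, 14, 6, 8, 4, 6, 14, 10, 8, 6, 4, 0, 2] .nil (.cons [8, 6, 14, 16, 8, 10, 6, 8, 2, 4, 6, 14, 12, 10, 8, 6, 4, 2] .nil (.cons [8, 4, 6, 14, 16, 10, 6, 8, 2, 4, 6, 14, 12, 10, 8, 6, 4, 2] .nil (.cons [10, 8, 6, 14, 16, 10, 6, 8, 2, 4, 6, 14, 12, 10, 8, 6, 4, 2] .nil (.cons [8, 4, 6, 14, 16, 14, 6, 8, 2, 4, 6, 14, 12, 10, 8, 6, 4, 2] (.cons [4, 0, 8, 14, 2, 8, 4, 6, 16, 14] (.cons [4, 6, 14, 4, 8]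 (.cons [3, 1, 1, 2, 2] .nil .nil) .nil) .nil) (.cons [6, 8, 4, 6, 14, 16, 6, 8, 2, 4, 6, 14, 12, 10, 8, 6, 4, 2] .nil (.cons [8, 2, 4, 6, 14, 16, 10, 8, 2, 4, 6, 14, 12, 10, 8, 6, 4, 2] .nil (.cons [6, 8, 4, 6, 14, 16, 10, 8, 2, 4, 6, 14, 12, 10, 8, 6, 4, 2] .nil (.cons [12, 10, 8, 6, 14, 16, 10, 8, 2, 4, 6, 14, 12, 10, 8, 6, 4, 2] .nil (.cons [8, 0, 2, 4, 6, 14, 16, 8, 2, 4, 6, 14, 12, 10, 8, 6, 4, 2] .nil (.cons [6, 8, 2, 4, 6, 14, 16, 8, 2, 4, 6, 14, 12, 10, 8, 6, 4, 2] .nil (.cons [6, 8, 2, 4, 6, 14, 16, 6, 8, 4, 6, 14, 12, 10, 8, 6, 4, 2] (.cons [8, 14, 0, 4, 2, 8, 12, 6, 16, 14] (.cons [2, 4] (.cons [0, 2, 2, 2, 2] .nil .nil) .nil) .nil) (.cons [6, 8, 2, 4, 6, 14, 16, 10, 8, 4, 6, 14, 12, 10, 8, 6, 4, 2] .nil (.cons [10, 8, 0, 2, 4, 6, 14, 16, 8, 4, 6, 14, 12, 10, 8, 6, 4, 2] .nil (.cons [12, 10, 8, 2,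 4, 6, 14, 16, 8, 4, 6, 14, 12, 10, 8, 6, 4, 2] .nil (.cons [6, 8, 0, 2, 4, 6, 14, 16, 10, 8, 6, 14, 12, 10, 8, 6, 4, 2] .nil (.cons [10, 8, 2, 4, 6, 14, 16, 6, 8, 2, 4, 6, 14, 10, 8, 6, 4, 2] (.cons [14, 8, 2, 0, 4, 12, 6, 16, 6, 4, 2, 8, 14] (.cons [14, 2, 4, 0, 2, 10] (.cons [0, 2, 0, 0, 3, 1] .nil .nil) .nil) .nil) (.cons [8, 0, 2, 4, 6, 14, 16, 14, 6, 8, 4, 6, 14, 10, 8, 6, 4, 2] (.cons [2, 0, 12, 6, 16, 6, 4, 2, 8, 14] (.cons [8, 2, 4, 2, 0, 8, 2, 4] (.cons [1, 1, 1, 1, 2, 0, 0] .nil .nil) .nil) .nil) (.cons [8, 4, 6, 14, 16, 14, 4, 6, 8, 2, 4, 6, 14, 12, 10, 8, 6, 4, 2] (.cons [8, 2, 4, 0, 2, 8, 2, 4, 12, 6, 16, 14] .nil .nil) (.cons [0, 2, 4, 6, 14, 16, 10, 6, 8, 2, 4, 6, 14, 12, 10, 8, 6, 4, 2] .nil (.cons [8, 0, 2, 4, 6, 14, 16, 10, 8, 2, 4, 6, 14, 12, 10, 8, 6, 4, 2] .nil (.cons [14, 6, 8, 4, 6, 14,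 16, 10, 8, 2, 4, 6, 14, 12, 10, 8, 6, 4, 2] .nil (.cons [10, 8, 0, 2, 4, 6, 14, 16, 8, 2, 4, 6, 14, 12, 10, 8, 6, 4, 2] .nil (.cons [10, 6, 8, 2, 4, 6, 14, 16, 8, 2, 4, 6, 14, 12, 10, 8, 6, 4, 2] .nil (.cons [8, 0, 2, 4, 6, 14, 16, 14, 6, 8, 4, 6, 14, 12, 10, 8, 6, 4, 2] .nil (.cons [6, 8, 0, 2, 4, 6, 14, 16, 6, 8, 4, 6, 14, 12, 10, 8, 6, 4, 2] .nil (.cons [10, 8, 0, 2, 4, 6, 14, 16, 6, 8, 4, 6, 14, 12, 10, 8, 6, 4, 2] .nil (.cons [10, 6, 8, 2, 4, 6, 14, 16, 6, 8, 4, 6, 14, 12, 10, 8, 6, 4, 2] .nil (.cons [6, 8, 0, 2, 4, 6, 14, 16, 10, 8, 4, 6, 14, 12, 10, 8, 6, 4, 2] .nil (.cons [10, 6, 8, 2, 4, 6, 14, 16, 10, 8, 4, 6, 14, 12, 10, 8, 6, 4, 2] .nil (.cons [12, 10, 8, 2, 4, 6, 14, 16, 10, 8, 4, 6, 14, 12, 10, 8, 6, 4, 2] .nil (.cons [8, 0, 2, 4, 6, 14, 16, 14, 6, 8, 2, 4, 6, 14, 10, 8, 6, 4, 2] (.cons [2, 14,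 8, 2, 6, 4, 12, 6, 16, 14] .nil .nil) (.cons [4, 6, 8, 2, 4, 6, 14, 16, 6, 8, 2, 4, 6, 14, 12, 10, 8, 6, 4, 2] .nil (.cons [4, 6, 8, 2, 4, 6, 14, 16, 10, 8, 2, 4, 6, 14, 12, 10, 8, 6, 4, 2] .nil (.cons [14, 10, 6, 8, 4, 6, 14, 16, 10, 8, 2, 4, 6, 14, 12, 10, 8, 6, 4, 2] .nil (.cons [6, 8, 0, 2, 4, 6, 14, 16, 10, 6, 8, 4, 6, 14, 12, 10, 8, 6, 4, 2] .nil (.cons [12, 10, 8, 2, 4, 6, 14, 16, 10, 6, 8, 4, 6, 14, 12, 10, 8, 6, 4, 2] .nil (.cons [12, 10, 8, 0, 2, 4, 6, 14, 16, 10, 8, 4, 6, 14, 12, 10, 8, 6, 4, 2] .nil (.cons [12, 10, 6, 8, 2, 4, 6, 14, 16, 10, 8, 4, 6, 14, 12, 10, 8, 6, 4, 2] .nil (.cons [10, 6, 8, 0, 2, 4, 6, 14, 16, 10, 8, 2, 4, 6, 14, 12, 10, 8, 6, 4, 2] (.cons [8, 2, 4, 6, 0, 14, 16, 6, 4, 2, 8, 14] (.cons [14, 12, 6, 2, 4, 0, 2] (.cons [1, 2, 0, 2, 1] .nil .nil) .nil) .nil) (.cons [10, 8, 2,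 4, 6, 14, 16, 14, 8, 10, 6, 8, 2, 4, 6, 14, 12, 10, 8, 6, 4, 2] .nil .nil)))))))))))))))))))))))))))))))))))))))))))))))))))))))))))))))))))))))))))))))))))))))))))))))))))))))))))))))))))))))))))))))))))))))))))))))))))))))))))))))))))))))))))))))))))))))))))))))))))))))))))))))))))))))))))))))))))))))))))))))))))))))))))))))))))))))))))))) (⟨cx_l0.b, cx_l0.S, [], cx_R0, 0⟩ :: cx_tl) (0 :: cx_lk) Pd.nil 0 = true := by decide +kernel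
theorem cx_sound {G : Type*} [Group G] {φ : G →* Equiv.Perm ℕ} {γ : ℕ → G}
    (M : Model φ γ 12 m_ns m_ts) : ChainSound φ (gp γ [0, 2, 4, 6, 8, 10, 12, 14, 16]) 12 [] cx_ls :=
  ⟨Level.ok_sound' M cx_l0_ok,
   Level.ok_sound' M cx_l1_ok,
   Level.ok_sound' M cx_l2_ok,
   Level.ok_sound' M cx_l3_ok,
   Level.okT_sound M cx_l4_ok,
   Level.okT_sound M cx_l5_ok, trivial⟩
theorem cx_cent {G : Type*} [Group G] {φ : G →* Equiv.Perm ℕ} {γ : ℕ → G}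
    (C : Cert φ γ 12 m_ns m_ts [0, 2, 4, 6, 8, 10, 12, 14, 16] c_ls) : Cent γ cx_S.u cx_S.Cl 12 :=
  have X := (C.rechain (cx_sound C.M) (by decide +kernel)).exact
  have A := Srch.auxB_sound (S := cx_S) C.M (K := ⊤) le_top rfl cx_aux
  have F := fun {tr : Tr} {R : ℕ} => Srch.found_of_run (S := cx_S) C.M C.base (by decide +kernel) X A (tr := tr) (R := R)
  Cent.of_found (S := cx_S) C.M X rfl (F cx_r0) cx_cov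

end Cfsg.Agent.Fi22C
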